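import Cfsg.Agent.Lib.LocalEven.SwapInjective.Algebra
import Cfsg.Agent.Lib.Solvable.Cores

/-!
# Removing normal `r`-subgroups from a linear group

A group acting on a finite abelian `r`-group maps to the units of a ring so that the image has no
nontrivial normal `r`-subgroup, quadratic elements stay quadratic and the kernel is only larger by
elements of odd order.
-/

set_option autoImplicit false

namespace CfsgLib.LocalEven.SwapInjective

universe u

variable {Γ : Type u} [Group Γ] [Finite Γ]

/-- The unit of `End W` induced on an invariant subgroup. -/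
noncomputable def restrictEnd {V : Type u} [AddCommGroup V] (ψ : Γ →* (AddMonoid.End V)ˣ)
    (W : AddSubgroup V) (hW : ∀ g, ∀ v ∈ W, (ψ g : AddMonoid.End V) v ∈ W) :
    Γ →* (AddMonoid.End W)ˣ :=
  MonoidHom.toHomUnits
    { toFun := fun g => AddMonoidHom.mk' (fun v : W => (⟨(ψ g : AddMonoid.End V) v, hW g v v.2⟩ : W))
        fun a b => Subtype.ext (map_add (ψ g : AddMonoid.End V) (a : V) (b : V))
      map_one' := by
        refine AddMonoidHom.ext fun v => Subtype.ext ?_
        change (ψ 1 : AddMonoid.End V) v = v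
        rw [map_one]; rfl
      map_mul' := fun g g' => by
        refine AddMonoidHom.ext fun v => Subtype.ext ?_
        change (ψ (g * g') : AddMonoid.End V) v = _
        rw [map_mul]; rfl }

/-- The unit of `End (V ⧸ W)` induced by an invariant subgroup. -/
noncomputable def quotientEnd {V : Type u} [AddCommGroup V] (ψ : Γ →* (AddMonoid.End V)ˣ)
    (W : AddSubgroup V) (hW : ∀ g, ∀ v ∈ W, (ψ g : AddMonoid.End V) v ∈ W) :
    Γ →* (AddMonoid.End (V ⧸ W))ˣ :=
  MonoidHom.toHomUnits
    { toFun := fun g => QuotientAddGroup.map W W ((ψ g : AddMonoid.End V) : V →+ V)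
        fun v hv => hW g v hv
      map_one' := by
        refine AddMonoidHom.ext fun v => ?_
        induction v using QuotientAddGroup.induction_on with
        | H v =>
          change ((((ψ 1 : (AddMonoid.End V)ˣ) : AddMonoid.End V) v : V) : V ⧸ W) = _
          rw [map_one]; rfl
      map_mul' := fun g g' => by
        refine AddMonoidHom.ext fun v => ?_
        induction v using QuotientAddGroup.induction_on with
        | H v =>
          change ((((ψ (g * g') : (AddMonoid.End V)ˣ) : AddMonoid.End V) v : V) : V ⧸ W) = _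
          rw [map_mul]; rfl }

theorem add_pow_of_fix {V : Type*} [AddCommGroup V] (e : AddMonoid.End V) {v d : V}
    (hd : e d = d) (hv : e v = v + d) : ∀ n : ℕ, (e ^ n) v = v + n • d
  | 0 => by simp
  | n + 1 => by
    rw [pow_succ', AddMonoid.End.coe_mul, Function.comp_apply, add_pow_of_fix e hd hv n, map_add, map_nsmul, hd, hv,
      succ_nsmul]
    abel

theorem exists_ring {r : ℕ} [Fact r.Prime] (hr2 : r ≠ 2) :
    ∀ (n : ℕ) (V : Type u) [AddCommGroup V] [Finite V], Nat.card V = n →
      ∀ (k : ℕ), (∀ v : V, r ^ k • v = 0) → ∀ ψ : Γ →* (AddMonoid.End V)ˣ,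
      ∃ (R : Type u) (_ : Ring R) (φ : Γ →* Rˣ), ((r ^ k : ℕ) : R) = 0 ∧
        (∀ g, Quad (ψ g) → Quad (φ g)) ∧ (∀ g, ψ g = 1 → φ g = 1) ∧
        (∀ g, φ g = 1 → ∃ m, Odd m ∧ ψ (g ^ m) = 1) ∧
        ∀ M : Subgroup Rˣ, M ≤ φ.range → φ.range ≤ Subgroup.normalizer (M : Set Rˣ) →
          IsPGroup r M → M = ⊥ := by
  intro n
  induction n using Nat.strong_induction_on with
  | _ n ih =>
    intro V _ _ hn k hk ψ
    by_cases h : ∀ M : Subgroup (AddMonoid.End V)ˣ, M ≤ ψ.range →
        ψ.range ≤ Subgroup.normalizer (M : Set (AddMonoid.End V)ˣ) → IsPGroup r M → M = ⊥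
    · refine ⟨AddMonoid.End V, inferInstance, ψ, ?_, fun g hg => hg, fun g hg => hg,
        fun g hg => ⟨1, odd_one, by rwa [pow_one]⟩, h⟩
      rw [AddMonoid.End.natCast_def]
      exact AddMonoidHom.ext hk
    push Not at h
    obtain ⟨M, hM, hMn, hMr, hM1⟩ := h
    -- the fixed vectors of `M`
    let W : AddSubgroup V :=
      ⨅ m ∈ M, AddMonoidHom.eqLocus ((m : AddMonoid.End V) : V →+ V) (AddMonoidHom.id V)
    have hWmem : ∀ {v : V}, v ∈ W ↔ ∀ m ∈ M, (m : AddMonoid.End V) v = v := by
      intro v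
      simp only [W, AddSubgroup.mem_iInf]
      rfl
    have hW : ∀ g, ∀ v ∈ W, (ψ g : AddMonoid.End V) v ∈ W := by
      intro g v hv
      refine hWmem.2 fun m hm => ?_
      have h1 := hWmem.1 hv _
        ((Subgroup.mem_normalizer_iff.1 (hMn ⟨g⁻¹, rfl⟩) m).1 hm)
      rw [map_inv, inv_inv, Units.val_mul, Units.val_mul, AddMonoid.End.coe_mul, Function.comp_apply,
        AddMonoid.End.coe_mul, Function.comp_apply] at h1
      have h2 := congrArg (ψ g : AddMonoid.End V) h1
      have h3 : ∀ x, (ψ g : AddMonoid.End V) ((((ψ g)⁻¹ : (AddMonoid.End V)ˣ) : AddMonoid.End V) x) = x :=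
        fun x => DFunLike.congr_fun (Units.mul_inv (ψ g)) x
      rwa [h3] at h2
    have hWtop : W ≠ ⊤ := by
      intro e
      refine hM1 ((Subgroup.eq_bot_iff_forall _).2 fun m hm => Units.ext ?_)
      exact AddMonoidHom.ext fun v => hWmem.1 (e ▸ AddSubgroup.mem_top v) m hm
    have hWbot : W ≠ ⊥ := by
      intro e
      haveI : Nontrivial V := by
        by_contra hs
        rw [not_nontrivial_iff_subsingleton] at hs
        exact hWtop (Subsingleton.elim _ _)
      letI : MulAction M V :=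
        { smul := fun m v => ((m : (AddMonoid.End V)ˣ) : AddMonoid.End V) v
          one_smul := fun v => rfl
          mul_smul := fun m m' v => rfl }
      have hdvd : r ∣ Nat.card V := by
        obtain ⟨v, hv⟩ := exists_ne (0 : V)
        have h1 : addOrderOf v ∣ r ^ k := addOrderOf_dvd_of_nsmul_eq_zero (hk v)
        obtain ⟨j, -, e2⟩ := (Nat.dvd_prime_pow (Fact.out : r.Prime)).1 h1
        rcases j with _ | j
        · exact absurd (AddMonoid.addOrderOf_eq_one_iff.1 (by simpa using e2)) hv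
        · exact (dvd_pow_self r j.succ_ne_zero).trans (e2 ▸ addOrderOf_dvd_natCard v)
      have hfix : (0 : V) ∈ MulAction.fixedPoints M V := fun m =>
        map_zero ((m : (AddMonoid.End V)ˣ) : AddMonoid.End V)
      obtain ⟨v, hv, hv0⟩ := hMr.exists_fixed_point_of_prime_dvd_card_of_fixed_point V hdvd hfix
      exact hv0.symm (AddSubgroup.mem_bot.1 (e ▸ hWmem.2 fun m hm => hv ⟨m, hm⟩))
    have hcard : Nat.card W < n ∧ Nat.card (V ⧸ W) < n := by
      have h1 : Nat.card W * W.index = n := by rw [W.card_mul_index, hn]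
      have h2 : 1 < W.index :=
        AddSubgroup.one_lt_index_of_ne_top hWtop
      have h3 : 1 < Nat.card W := (AddSubgroup.one_lt_card_iff_ne_bot W).2 hWbot
      refine ⟨?_, ?_⟩
      · rw [← h1]; exact (Nat.lt_mul_iff_one_lt_right (by omega)).2 h2
      · change W.index < n
        rw [← h1]; exact (Nat.lt_mul_iff_one_lt_left (by omega)).2 h3
    obtain ⟨R₁, _, φ₁, hk₁, hq₁, ho₁, hm₁, hM₁⟩ := ih _ hcard.1 W rfl k
      (fun v => Subtype.ext (hk v)) (restrictEnd ψ W hW)
    obtain ⟨R₂, _, φ₂, hk₂, hq₂, ho₂, hm₂, hM₂⟩ := ih _ hcard.2 (V ⧸ W) rfl k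
      (fun v => by
        induction v using QuotientAddGroup.induction_on with
        | H v => rw [← QuotientAddGroup.mk_nsmul, hk v]; rfl)
      (quotientEnd ψ W hW)
    let φ : Γ →* (R₁ × R₂)ˣ :=
      MulEquiv.prodUnits.symm.toMonoidHom.comp (φ₁.prod φ₂)
    have hφ : ∀ g, ((φ g : (R₁ × R₂)ˣ) : R₁ × R₂) = ((φ₁ g : R₁), (φ₂ g : R₂)) := fun g => rfl
    refine ⟨R₁ × R₂, inferInstance, φ, Prod.ext hk₁ hk₂, ?_, ?_, ?_, ?_⟩
    · intro g hg
      have hg' : ∀ v, (ψ g : AddMonoid.End V) ((ψ g : AddMonoid.End V) v - v) -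
          ((ψ g : AddMonoid.End V) v - v) = 0 := fun v => DFunLike.congr_fun hg v
      have h1 : Quad (φ₁ g) := hq₁ g (AddMonoidHom.ext fun v => Subtype.ext ((hg' (v : V))))
      have h2 : Quad (φ₂ g) := hq₂ g (AddMonoidHom.ext fun v => by
        induction v using QuotientAddGroup.induction_on with
        | H v => exact congrArg (fun x : V => (x : V ⧸ W)) (hg' v))
      exact Prod.ext h1 h2
    · intro g hg
      refine Units.ext ?_
      rw [hφ, ho₁ g, ho₂ g]
      · rfl
      · refine Units.ext (AddMonoidHom.ext fun v => ?_)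
        induction v using QuotientAddGroup.induction_on with
        | H v =>
          exact congrArg (fun x : V => (x : V ⧸ W))
            (show (ψ g : AddMonoid.End V) v = v by rw [hg]; rfl)
      · refine Units.ext (AddMonoidHom.ext fun v => Subtype.ext ?_)
        exact show (ψ g : AddMonoid.End V) v = v by rw [hg]; rfl
    · intro g hg
      have e := congrArg Units.val hg
      rw [hφ] at e
      obtain ⟨m₁, hm1o, e1⟩ := hm₁ g (Units.ext (congrArg Prod.fst e))
      obtain ⟨m₂, hm2o, e2⟩ := hm₂ g (Units.ext (congrArg Prod.snd e))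
      refine ⟨m₁ * m₂ * r ^ k, ((hm1o.mul hm2o).mul
        (((Fact.out : r.Prime).odd_of_ne_two hr2).pow)), ?_⟩
      set g' := g ^ (m₁ * m₂) with hg'
      have a1 : restrictEnd ψ W hW g' = 1 := by
        rw [hg', pow_mul, map_pow, e1, one_pow]
      have a2 : quotientEnd ψ W hW g' = 1 := by
        rw [hg', mul_comm, pow_mul, map_pow, e2, one_pow]
      rw [pow_mul, ← hg', map_pow]
      refine Units.ext (AddMonoidHom.ext fun v => ?_)
      set d := (ψ g' : AddMonoid.End V) v - v with hd
      have hdW : d ∈ W := by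
        have h2 : ((((ψ g') : AddMonoid.End V) v : V) : V ⧸ W) = (v : V ⧸ W) :=
          DFunLike.congr_fun (congrArg Units.val a2) (v : V ⧸ W)
        exact QuotientAddGroup.eq_iff_sub_mem.1 h2
      have hfd : (ψ g' : AddMonoid.End V) d = d :=
        congrArg Subtype.val (DFunLike.congr_fun (congrArg Units.val a1) (⟨d, hdW⟩ : W))
      change (((ψ g') ^ r ^ k : (AddMonoid.End V)ˣ) : AddMonoid.End V) v = v
      rw [Units.val_pow_eq_pow_val, add_pow_of_fix _ hfd (by rw [hd, add_sub_cancel]), hk, add_zero]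
    · intro N hN hNn hNr
      have key : ∀ {S : Type u} [Ring S] (χ : Γ →* Sˣ) (p : (R₁ × R₂)ˣ →* Sˣ),
          (∀ g, p (φ g) = χ g) →
          (∀ M : Subgroup Sˣ, M ≤ χ.range → χ.range ≤ Subgroup.normalizer (M : Set Sˣ) →
            IsPGroup r M → M = ⊥) → N.map p = ⊥ := by
        intro S _ χ p hp hS
        refine hS _ ?_ ?_ (hNr.map p)
        · rintro _ ⟨x, hx, rfl⟩
          obtain ⟨g, rfl⟩ := hN hx
          exact ⟨g, (hp g).symm⟩
        · rintro _ ⟨g, rfl⟩
          rw [← hp g]
          exact Subgroup.le_normalizer_map p ⟨_, hNn ⟨g, rfl⟩, rfl⟩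
      refine (Subgroup.eq_bot_iff_forall _).2 fun x hx => ?_
      have h1 := key φ₁ (Units.map (RingHom.fst R₁ R₂ : R₁ × R₂ →* R₁)) (fun g => Units.ext rfl) hM₁
      have h2 := key φ₂ (Units.map (RingHom.snd R₁ R₂ : R₁ × R₂ →* R₂)) (fun g => Units.ext rfl) hM₂
      rw [Subgroup.eq_bot_iff_forall] at h1 h2
      exact Units.ext (Prod.ext (congrArg Units.val (h1 _ ⟨x, hx, rfl⟩))
        (congrArg Units.val (h2 _ ⟨x, hx, rfl⟩)))

end CfsgLib.LocalEven.SwapInjective
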