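import Cfsg.Agent.Lib.LocalEven.SwapInjective.QuadraticMove
import Cfsg.Agent.Lib.LocalEven.SwapInjective.Semisimple
import Cfsg.Agent.Lib.OddOrder.PStable
import Cfsg.Agent.Lib.PGroup.Frattini
import Cfsg.Agent.Lib.Coprime.FixedPointFreeOnModule
import Cfsg.Agent.Lib.Solvable.Basic

/-!
# Elements acting quadratically on a normalised `r`-subgroup
-/

set_option autoImplicit false

namespace CfsgLib.LocalEven.SwapInjective

open Subgroup MulAction CfsgLib.Involution.Dihedral CfsgLib.Involution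
  CfsgLib.LocalEven.BenderTransitive
open scoped commutatorElement

universe u

variable {G : Type u} [Group G] [Finite G] {H : Subgroup G}

omit [Finite G] in
theorem smul_eq_of_normalCore_bot (hcore : H.normalCore = ⊥) {k : G}
    (h : ∀ p : G ⧸ H, k • p = p) : k = 1 := by
  rw [← Subgroup.mem_bot, ← hcore]
  intro g
  have := SE.fixes_mk_iff.1 (h ((g⁻¹ : G) : G ⧸ H))
  rwa [inv_inv] at this

omit [Finite G] in
theorem normalizer_ne_top (hcore : H.normalCore = ⊥) {Y : Subgroup G} (hY : Y ≠ ⊥) {c : G ⧸ H}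
    (hc : Y ≤ stabilizer G c) : normalizer (Y : Set G) ≠ ⊤ := by
  intro h
  refine hY ((Subgroup.eq_bot_iff_forall _).2 fun k hk => smul_eq_of_normalCore_bot hcore fun p => ?_)
  obtain ⟨g, rfl⟩ : ∃ g : G, g • c = p := MulAction.exists_smul_eq G c p
  exact smul_of_normalizes (h ▸ mem_top g) hc hk

/-- The action of `Γ` on the abelianisation of `Y`. -/
noncomputable def abAction {Γ Y : Subgroup G} (h : Γ ≤ normalizer (Y : Set G)) :
    Γ →* (AddMonoid.End (Additive (Abelianization Y)))ˣ :=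
  MonoidHom.toHomUnits
    { toFun := fun g => MonoidHom.toAdditive ((Coprime.abConjHom h g : MulAut _).toMonoidHom)
      map_one' := by
        refine AddMonoidHom.ext fun v => ?_
        rw [map_one]; rfl
      map_mul' := fun g g' => by
        refine AddMonoidHom.ext fun v => ?_
        rw [map_mul]; rfl }

omit [Finite G] in
theorem abAction_of {Γ Y : Subgroup G} (h : Γ ≤ normalizer (Y : Set G)) (g : Γ) (m : Y) :
    (abAction h g : AddMonoid.End (Additive (Abelianization Y)))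
      (Additive.ofMul (Abelianization.of m)) =
    Additive.ofMul (Abelianization.of (Coprime.conjHom h g m)) := rfl

variable (hH : Cfsg.IsStronglyEmbedded H)

include hH

/-- An element acting quadratically on a subgroup normalised by the normaliser of `P_c` fixes
`c`. -/
theorem quad_stabilizer (hcore : H.normalCore = ⊥) (hIH : SwapInjBelow.{u} (Nat.card G))
    {r : ℕ} [hr : Fact r.Prime] (hr2 : r ≠ 2) {P : Subgroup G} (hP : IsPGroup r P)
    {u : G} (hu : orderOf u = 2) (huP : u ∈ normalizer (P : Set G)) {c a : G ⧸ H}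
    (huc : u • c = c) (hac : a ≠ c) {R : Subgroup G} (hR : R = P ⊓ stabilizer G c)
    (hRa : R ≤ stab2 a (u • a))
    {γ₀ : G} (hγ₀ : γ₀ ∈ normalizer (R : Set G)) (hγ₀c : γ₀ • c = a)
    {w : G} (hw : orderOf w = 2) (hwR : w ∈ normalizer (R : Set G)) (huw : Commute u w)
    (hne : u ≠ w) {Y : Subgroup G} (hYP : Y ≤ P) (hYc : Y ≤ stabilizer G c)
    (hY : normalizer (R : Set G) ≤ normalizer (Y : Set G))
    (huY : u ∉ centralizer (Y : Set G)) {x : G} (hxP : x ∈ P) (hxY : x ∈ normalizer (Y : Set G))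
    (hquad : ∀ m ∈ Y, Commute x ⁅x, m⁆) : x • c = c := by
  classical
  have huR : u ∈ normalizer (R : Set G) := by
    rw [hR]
    exact mem_normalizer_inf' huP (le_normalizer (mem_stabilizer_iff.2 huc))
  have hYr : IsPGroup r Y := hP.to_le hYP
  have hYne : Y ≠ ⊥ := by
    rintro rfl
    exact huY (mem_centralizer_iff.2 fun y hy => by
      rw [SetLike.mem_coe, mem_bot] at hy; rw [hy, one_mul, mul_one])
  set Γ := normalizer (Y : Set G) with hΓ
  have hΓtop : Γ ≠ ⊤ := normalizer_ne_top hcore hYne hYc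
  have huΓ : u ∈ Γ := hY huR
  have hwΓ : w ∈ Γ := hY hwR
  have hγΓ : γ₀ ∈ Γ := hY hγ₀
  have hwc : w • c = c := SE.commute_fixes hH hu huc huw.symm
  set Γc := (stabilizer G c).subgroupOf Γ
  -- the kernel of the action on the orbit
  set K : Subgroup Γ := Γc.normalCore with hK
  have hKmem : ∀ k : Γ, (∀ δ ∈ Γ, (k : G) • δ • c = δ • c) → k ∈ K := by
    intro k hk g
    refine mem_subgroupOf.2 (mem_stabilizer_iff.2 ?_)
    change ((g : G) * k * (g : G)⁻¹) • c = c
    rw [mul_smul, mul_smul, hk _ (inv_mem g.2), smul_inv_smul]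
  have hKodd : Odd (Nat.card K) := by
    rw [← Nat.not_even_iff_odd]
    intro he
    obtain ⟨t, ht, ht2⟩ := Basic.exists_involution_of_even _ he
    have h1 : ((t : Γ) : G) • c = c :=
      mem_stabilizer_iff.1 (mem_subgroupOf.1 (Γc.normalCore_le ht))
    have h2 : (γ₀⁻¹ * ((t : Γ) : G) * γ₀⁻¹⁻¹) • c = c :=
      mem_stabilizer_iff.1 (mem_subgroupOf.1 (ht (⟨γ₀, hγΓ⟩ : Γ)⁻¹))
    rw [inv_inv, mul_smul, mul_smul, hγ₀c, inv_smul_eq_iff, hγ₀c] at h2
    exact hac (SE.fixed_unique hH ((orderOf_coe t).trans ht2) h2 h1)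
  -- commutators of `R` with `u` lie in the kernel
  have hRK : ∀ t ∈ R, ∀ ht : ⁅t, u⁆ ∈ Γ, (⟨⁅t, u⁆, ht⟩ : Γ) ∈ K := by
    intro t ht hmem
    refine hKmem _ fun δ hδ => ?_
    have htc : t • c = c := mem_stabilizer_iff.1 ((hR ▸ ht : t ∈ P ⊓ stabilizer G c).2)
    have hta := mem_stab2.1 (hRa ht)
    have htΓ : t ∈ Γ := hY (le_normalizer ht)
    have htia : t⁻¹ • a = a := inv_smul_eq_iff.2 hta.1.symm
    have htic : t⁻¹ • c = c := inv_smul_eq_iff.2 htc.symm
    have h := orbit_core hH hIH hΓtop hu huΓ huc hw hwΓ huw hne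
      (u' := t * u * t⁻¹) ((orderOf_conj t u).trans hu)
      (mul_mem (mul_mem htΓ huΓ) (inv_mem htΓ))
      (by rw [mul_smul, mul_smul, htic, huc, htc]) hγΓ (hγ₀c.symm ▸ hac)
      (by rw [hγ₀c, mul_smul, mul_smul, htia, hta.2]) hδ
    rw [show t * u * t⁻¹ * u = ⁅t, u⁆ by rw [commutatorElement_def, inv_eq hu]] at h
    exact h
  set ψ := abAction (Γ := Γ) (Y := Y) le_rfl with hψ
  -- the kernel of the action on `Y`
  have hψker : ∀ t : Γ, orderOf t = 2 → ψ t ≠ 1 := by
    intro t ht htψ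
    have hcent : (t : G) ∈ centralizer (Y : Set G) := by
      refine Coprime.le_centralizer_of_frattini (A := zpowers (t : G)) (K := Y)
        (zpowers_le.2 t.2) ?_ ?_ (mem_zpowers (t : G))
      · refine Nat.Coprime.coprime_dvd_right (Subgroup.card_subgroup_dvd_card _) ?_
        rw [Nat.card_zpowers, orderOf_coe, ht]
        obtain ⟨k, hk⟩ := IsPGroup.iff_card.1 hYr
        exact hk ▸ Nat.coprime_two_left.2 (hr.out.odd_of_ne_two hr2).pow
      · refine forall_zpowers_involution ((orderOf_coe t).trans ht)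
          (fun k _ => by rw [commutatorElement_one_left]; exact one_mem _) fun k hk => ?_
        set m : Y := ⟨k, hk⟩ with hm
        have h1 := DFunLike.congr_fun (congrArg Units.val htψ)
          (Additive.ofMul (Abelianization.of m))
        rw [abAction_of] at h1
        have h2 : Abelianization.of (Coprime.conjHom le_rfl t m * m⁻¹) = 1 := by
          rw [map_mul, map_inv, mul_inv_eq_one]
          exact Additive.ofMul.injective h1
        have h3 : Coprime.conjHom le_rfl t m * m⁻¹ ∈ _root_.commutator Y :=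
          (QuotientGroup.eq_one_iff _).1 h2
        refine ⟨Coprime.conjHom le_rfl t m * m⁻¹, ?_, ?_⟩
        · refine (?_ : _root_.commutator Y ≤ frattini Y) h3
          rw [_root_.commutator_def, commutator_le]
          exact fun y _ z _ => PGroup.Frattini.commutatorElement_mem_frattini hYr y z
        · simp [commutatorElement_def, hm, Coprime.conjHom_apply]
    refine huY ?_
    obtain ⟨g, hg⟩ := isConj_iff.1 (SE.all_conj (orbit_se hH hu huΓ huc hγΓ (hγ₀c.symm ▸ hac))
      (a := t) (b := ⟨u, huΓ⟩) ht ((orderOf_mk u huΓ).trans hu))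
    have hg' : (g : G) * t * (g : G)⁻¹ = u := congrArg Subtype.val hg
    rw [← hg', mem_centralizer_iff]
    intro y hy
    have h4 := mem_centralizer_iff.1 hcent _ (conj_inv_mem_of_mem_normalizer g.2 hy)
    calc y * ((g : G) * t * (g : G)⁻¹) = (g : G) * ((g : G)⁻¹ * y * g * t) * (g : G)⁻¹ := by group
      _ = (g : G) * t * (g : G)⁻¹ * y := by rw [h4]; group
  obtain ⟨k, hk⟩ := IsPGroup.iff_card.1 hYr
  obtain ⟨Rg, _, φ, hφN, hφq, hφ1, hφk, hφM⟩ := exists_ring hr2 _
    (Additive (Abelianization Y)) rfl k (fun v => by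
      obtain ⟨v, rfl⟩ := Additive.ofMul.surjective v
      obtain ⟨m, rfl⟩ : ∃ m, Abelianization.of m = v := QuotientGroup.mk_surjective v
      rw [← ofMul_pow, ← map_pow, ← hk, pow_card_eq_one', map_one, ofMul_one]) ψ
  haveI : Finite φ.range := Set.finite_range φ
  -- no normal `r`-subgroup in the image of `K`
  set Kφ := K.map φ with hKφ
  have hKφn : φ.range ≤ normalizer (Kφ : Set Rgˣ) := by
    have h := le_normalizer_map (H := K) φ
    rwa [normalizer_eq_top_iff.2 (inferInstance : K.Normal), ← MonoidHom.range_eq_map] at h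
  haveI : Finite Kφ := Finite.of_injective _ (Subgroup.inclusion_injective (map_le_range φ K))
  have hKr : ∀ M : Subgroup Rgˣ, M ≤ Kφ → Kφ ≤ normalizer (M : Set Rgˣ) → IsPGroup r M → M = ⊥ := by
    intro M hM hMn hMr
    have h0 : (Cfsg.pCore r Kφ).map Kφ.subtype = ⊥ := by
      refine hφM _ ((map_subtype_le _).trans (map_le_range φ K)) ?_
        ((Solvable.Cores.isPGroup_pCore r).map _)
      haveI : (Cfsg.pCore r Kφ).Characteristic := inferInstance
      intro g hg
      exact Coprime.FixedPointFreeOnModule.mem_normalizer_map_of_char _ (hKφn hg)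
    haveI : (M.subgroupOf Kφ).Normal := (normal_subgroupOf_iff_le_normalizer hM).2 hMn
    have h1 : M.subgroupOf Kφ ≤ Cfsg.pCore r Kφ :=
      Solvable.Cores.le_pCore (hMr.comap_of_injective _ Kφ.subtype_injective)
    rw [← Subgroup.map_subgroupOf_eq_of_le hM, ← le_bot_iff, ← h0]
    exact map_mono h1
  -- `x` centralises the image of `K`
  have hxK : ∀ k ∈ K, Commute (φ ⟨x, hxY⟩) (φ k) := by
    set xΓ : Γ := ⟨x, hxY⟩
    set Px : Subgroup Γ := P.subgroupOf Γ with hPx
    set X := Px ⊔ K with hX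
    have hXodd : Odd (Nat.card X) := by
      have h := Solvable.Basic.card_sup_mul K Px
      obtain ⟨j, hj⟩ := IsPGroup.iff_card.1 (hP.comap_of_injective _ Γ.subtype_injective : IsPGroup r Px)
      have h2 : Odd (Nat.card Px * Nat.card K) :=
        (hj ▸ (hr.out.odd_of_ne_two hr2).pow).mul hKodd
      exact h2.of_dvd_nat ⟨_, h.symm⟩
    have hYΓ : Y ≤ Γ := le_normalizer
    set YX : Subgroup X := (Y.subgroupOf Γ).subgroupOf X with hYX
    have hYsub : Y.subgroupOf Γ ≤ X := le_sup_of_le_left fun m hm => hYP hm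
    haveI : (Y.subgroupOf Γ).Normal := (normal_subgroupOf_iff_le_normalizer hYΓ).2 le_rfl
    have hYXp : IsPGroup r YX :=
      (hYr.comap_of_injective _ Γ.subtype_injective).comap_of_injective _ X.subtype_injective
    set C := centralizer (YX : Set X) with hC
    haveI : C.Normal := inferInstance
    have hxX : xΓ ∈ X := mem_sup_left hxP
    have hcore' := OddOrder.PStable.quadratic_mem_pCore hXodd YX hYXp C hC ⟨xΓ, hxX⟩ (fun m hm => by
      apply Subtype.ext; apply Subtype.ext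
      exact (hquad _ hm).eq)
    have hCψ : ∀ z ∈ C, φ (z : Γ) = 1 := by
      intro z hz
      refine hφ1 _ (Units.ext (AddMonoidHom.ext fun v => ?_))
      obtain ⟨v, rfl⟩ := Additive.ofMul.surjective v
      obtain ⟨m, rfl⟩ : ∃ m, Abelianization.of m = v := QuotientGroup.mk_surjective v
      refine (abAction_of le_rfl (z : Γ) m).trans ?_
      have h1 := mem_centralizer_iff.1 hz ⟨⟨m, hYΓ m.2⟩, hYsub m.2⟩ m.2
      have h2 : Coprime.conjHom le_rfl (z : Γ) m = m := Subtype.ext (by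
        rw [Coprime.conjHom_apply, mul_inv_eq_iff_eq_mul]
        exact (congrArg (fun s : X => ((s : Γ) : G)) h1).symm)
      rw [h2]; rfl
    set Z : Subgroup X :=
      (Cfsg.pCore r (X ⧸ C)).comap (QuotientGroup.mk' C) ⊓ K.subgroupOf X with hZ
    haveI : (K.subgroupOf X).Normal := inferInstance
    haveI : Z.Normal := inferInstance
    have hZbot : Z.map (φ.comp X.subtype) = ⊥ := by
      refine hKr _ ?_ ?_ ?_
      · rintro _ ⟨z, hz, rfl⟩
        exact ⟨(z : Γ), hz.2, rfl⟩
      · rintro _ ⟨k, hk, rfl⟩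
        exact le_normalizer_map (φ.comp X.subtype)
          ⟨⟨k, mem_sup_right hk⟩, by rw [normalizer_eq_top_iff.2 (inferInstance : Z.Normal)]; exact mem_top _, rfl⟩
      · intro g
        obtain ⟨_, z, hz, rfl⟩ := g
        obtain ⟨i, hi⟩ := (Solvable.Cores.isPGroup_pCore r) ⟨_, hz.1⟩
        refine ⟨i, Subtype.ext ?_⟩
        have h1 := congrArg Subtype.val hi
        change (QuotientGroup.mk' C z) ^ r ^ i = 1 at h1
        rw [← map_pow, QuotientGroup.mk'_apply, QuotientGroup.eq_one_iff] at h1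
        change (φ.comp X.subtype z) ^ r ^ i = 1
        rw [← map_pow]
        exact hCψ _ h1
    intro k hk
    have hkX : k ∈ X := mem_sup_right hk
    have hz : ⁅(⟨xΓ, hxX⟩ : X), ⟨k, hkX⟩⁆ ∈ Z := by
      refine Subgroup.mem_inf.2 ⟨?_, ?_⟩
      · rw [mem_comap, map_commutatorElement, commutatorElement_def,
          mul_assoc _ (QuotientGroup.mk' C ⟨k, hkX⟩), mul_assoc]
        exact mul_mem hcore' (Normal.conj_mem inferInstance _ (inv_mem hcore') _)
      · refine mem_subgroupOf.2 ?_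
        change ⁅xΓ, k⁆ ∈ K
        rw [commutatorElement_def]
        exact mul_mem (Normal.conj_mem inferInstance k hk _) (inv_mem hk)
    have h2 : φ.comp X.subtype ⁅(⟨xΓ, hxX⟩ : X), ⟨k, hkX⟩⁆ = 1 := by
      rw [← Subgroup.mem_bot, ← hZbot]
      exact mem_map_of_mem _ hz
    rw [map_commutatorElement, commutatorElement_eq_one_iff_commute] at h2
    exact h2
  -- `r`-elements of `K` centralising the image of `K`
  have hkill : ∀ t : Γ, t ∈ K → (∃ i : ℕ, (t : G) ^ r ^ i = 1) →
      (∀ k ∈ K, Commute (φ t) (φ k)) → φ t = 1 := by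
    intro t ht hti htc
    have h := hKr (zpowers (φ t)) (zpowers_le.2 ⟨t, ht, rfl⟩) ?_ ?_
    · rw [← Subgroup.mem_bot, ← h]; exact mem_zpowers _
    · rintro _ ⟨k, hk, rfl⟩
      exact conj_normalizer_of_commute (htc k hk).symm
    · obtain ⟨i, hi⟩ := hti
      have h1 : φ t ^ r ^ i = 1 := by
        rw [← map_pow, show t ^ r ^ i = 1 from Subtype.ext hi, map_one]
      obtain ⟨j, -, hj⟩ := (Nat.dvd_prime_pow hr.out).1 (orderOf_dvd_of_pow_eq_one h1)
      exact IsPGroup.of_card (n := j) (by rw [Nat.card_zpowers, hj])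
  -- the acting data
  set Q : Subgroup Γ := P.subgroupOf Γ ⊓ (centralizer (Kφ : Set Rgˣ)).comap φ with hQ
  have hQc : ∀ t ∈ Q, ∀ k ∈ K, Commute (φ t) (φ k) := fun t ht k hk =>
    ((mem_centralizer_iff.1 ht.2) (φ k) ⟨k, hk, rfl⟩).symm
  have hconj : ∀ (g t : Γ), (∀ k ∈ K, Commute (φ t) (φ k)) →
      ∀ k ∈ K, Commute (φ (g * t * g⁻¹)) (φ k) := by
    intro g t ht k hk
    have h1 := ((ht _ (Normal.conj_mem inferInstance k hk g⁻¹)).map
      (MulAut.conj (φ g)).toMonoidHom)
    simp only [MulEquiv.coe_toMonoidHom, MulAut.conj_apply, ← map_inv, ← map_mul] at h1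
    rwa [show g * (g⁻¹ * k * g⁻¹⁻¹) * g⁻¹ = k by group] at h1
  have hxQ : (⟨x, hxY⟩ : Γ) ∈ Q := ⟨hxP, mem_centralizer_iff.2 (by
    rintro _ ⟨k, hk, rfl⟩
    exact (hxK k hk).symm.eq)⟩
  have hmemR : ∀ t : Γ, t ∈ Q → (t : G) • c = c → (t : G) ∈ R := fun t ht htc =>
    hR ▸ ⟨ht.1, mem_stabilizer_iff.2 htc⟩
  have hrel : ∀ t : G, t ∈ R → ∃ i : ℕ, t ^ r ^ i = 1 := by
    intro t ht
    obtain ⟨i, hi⟩ := hP ⟨t, (hR ▸ ht : t ∈ P ⊓ stabilizer G c).1⟩
    exact ⟨i, congrArg Subtype.val hi⟩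
  obtain ⟨k', hk'⟩ : ∃ k' : ℕ, ((r ^ k' : ℕ) : Rg) = 0 := ⟨k, hφN⟩
  refine quad_fix hH hr.out hr2 _ Γ Γ.subtype Rg φ ⟨u, huΓ⟩ ⟨w, hwΓ⟩ Q rfl
    ⟨Γ.subtype_injective, ⟨_, (hr.out.odd_of_ne_two hr2).pow, hk'⟩, ?_, (orderOf_mk u huΓ).trans hu,
      (orderOf_mk w hwΓ).trans hw, Subtype.ext huw.eq, fun e => hne (congrArg Subtype.val e), huc,
      (hP.comap_of_injective _ Γ.subtype_injective).to_le inf_le_left, ?_, ?_, ?_⟩
    ⟨x, hxY⟩ hxQ ?_
  · intro t ht htφ
    obtain ⟨m, hm, htm⟩ := hφk t htφ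
    refine hψker t ht ?_
    obtain ⟨j, rfl⟩ := hm
    rwa [pow_succ, pow_mul, pow_two, mul_self ht, one_pow, one_mul] at htm
  · refine Coprime.mem_normalizer_of_conj_map_le fun t ht => ⟨?_, ?_⟩
    · exact (conj_mem_of_mem_normalizer huP ht.1 : u * (t : G) * u⁻¹ ∈ P)
    · refine mem_centralizer_iff.2 ?_
      rintro _ ⟨k, hk, rfl⟩
      exact (hconj _ t (hQc t ht) k hk).symm.eq
  · -- elements of `Q` centralised by `u`
    intro p hp hpu
    have hpc : (p : G) • c = c := SE.commute_fixes hH hu huc (hpu.map Γ.subtype)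
    have hpR := hmemR p hp hpc
    obtain ⟨γ, hγ⟩ := isConj_iff.1 (SE.all_conj (orbit_se hH hu huR huc hγ₀ (hγ₀c.symm ▸ hac))
      (a := (⟨u, huR⟩ : normalizer (R : Set G))) (b := ⟨w, hwR⟩)
      ((orderOf_mk u huR).trans hu) ((orderOf_mk w hwR).trans hw))
    have hγw : (γ : G) * u * (γ : G)⁻¹ = w := congrArg Subtype.val hγ
    set γΓ : Γ := ⟨γ, hY γ.2⟩ with hγΓdef
    set t := (γ : G)⁻¹ * (p : G) * γ with htdef
    have ht : t ∈ R := conj_inv_mem_of_mem_normalizer γ.2 hpR
    have htΓ : ⁅t, u⁆ ∈ Γ := by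
      have h1 : t ∈ Γ := hY (le_normalizer ht)
      rw [commutatorElement_def]
      exact mul_mem (mul_mem (mul_mem h1 huΓ) (inv_mem h1)) (inv_mem huΓ)
    set κ : Γ := ⁅p, (⟨w, hwΓ⟩ : Γ)⁆ with hκ
    have hκK : κ ∈ K := by
      have e : κ = γΓ * ⟨⁅t, u⁆, htΓ⟩ * γΓ⁻¹ := Subtype.ext (by
        change ⁅(p : G), w⁆ = (γ : G) * ⁅t, u⁆ * (γ : G)⁻¹
        rw [← hγw, htdef, commutatorElement_def, commutatorElement_def]
        group)
      rw [e]
      exact Normal.conj_mem inferInstance _ (hRK t ht htΓ) _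
    have hκR : (κ : G) ∈ R := by
      change ⁅(p : G), w⁆ ∈ R
      rw [commutatorElement_def, mul_assoc, mul_assoc, ← mul_assoc w]
      exact mul_mem hpR (conj_mem_of_mem_normalizer hwR (inv_mem hpR))
    have hκc : ∀ k ∈ K, Commute (φ κ) (φ k) := fun k hk => by
      rw [hκ, commutatorElement_def, mul_assoc, mul_assoc, ← mul_assoc (⟨w, hwΓ⟩ : Γ), map_mul]
      exact (hQc p hp k hk).mul_left (hconj _ _ (hQc _ (inv_mem hp)) k hk)
    have h1 := hkill κ hκK (hrel _ hκR) hκc
    rwa [hκ, map_commutatorElement, commutatorElement_eq_one_iff_commute] at h1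
  · -- elements of `Q` fixing `c`
    intro t ht htc
    have htR := hmemR t ht htc
    set uΓ : Γ := ⟨u, huΓ⟩ with huΓdef
    set κ : Γ := ⁅t, uΓ⁆ with hκ
    have hκR : (κ : G) ∈ R := by
      change ⁅(t : G), u⁆ ∈ R
      rw [commutatorElement_def, mul_assoc, mul_assoc, ← mul_assoc u]
      exact mul_mem htR (conj_mem_of_mem_normalizer huR (inv_mem htR))
    have hκc : ∀ k ∈ K, Commute (φ κ) (φ k) := fun k hk => by
      rw [hκ, commutatorElement_def, mul_assoc, mul_assoc, ← mul_assoc uΓ, map_mul]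
      exact (hQc t ht k hk).mul_left (hconj _ _ (hQc _ (inv_mem ht)) k hk)
    have h1 := hkill κ (hRK _ htR κ.2) (hrel _ hκR) hκc
    rw [hκ, map_commutatorElement, commutatorElement_eq_one_iff_commute] at h1
    rw [map_mul, map_mul, h1.symm.eq, mul_assoc, ← map_mul,
      show uΓ * uΓ = 1 from Subtype.ext (mul_self hu), map_one, mul_one]
  · refine hφq _ (AddMonoidHom.ext fun v => ?_)
    obtain ⟨v, rfl⟩ := Additive.ofMul.surjective v
    obtain ⟨m, rfl⟩ : ∃ m, Abelianization.of m = v := QuotientGroup.mk_surjective v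
    set g : Γ := ⟨x, hxY⟩
    set z : Y := Coprime.conjHom le_rfl g m * m⁻¹ with hz
    have h1 : (ψ g : AddMonoid.End _) (Additive.ofMul (Abelianization.of m)) -
        Additive.ofMul (Abelianization.of m) = Additive.ofMul (Abelianization.of z) := by
      rw [abAction_of, hz, map_mul, map_inv, ← ofMul_div, div_eq_mul_inv]
    have h2 : Coprime.conjHom le_rfl g z = z := Subtype.ext (by
      rw [Coprime.conjHom_apply]
      have h3 : Commute x ⁅x, (m : G)⁆ := hquad m m.2
      have h4 : (z : G) = ⁅x, (m : G)⁆ := by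
        simp [hz, g, Coprime.conjHom_apply, commutatorElement_def]
      rw [h4]
      exact mul_inv_eq_iff_eq_mul.2 h3.eq)
    change (ψ g : AddMonoid.End _) ((ψ g : AddMonoid.End _) (Additive.ofMul (Abelianization.of m)) -
        Additive.ofMul (Abelianization.of m)) - ((ψ g : AddMonoid.End _)
        (Additive.ofMul (Abelianization.of m)) - Additive.ofMul (Abelianization.of m)) = 0
    rw [h1, abAction_of, h2, sub_self]

end CfsgLib.LocalEven.SwapInjective
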