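import Cfsg.Agent.Lib.OddOrder.Puig
import Cfsg.Agent.Lib.OddOrder.SylowLocal
import Cfsg.Agent.Lib.Components.PComponents

/-!
# The centre of the Puig subgroup
-/

set_option autoImplicit false

namespace CfsgLib.LocalEven.SwapInjective

open Subgroup CfsgLib.OddOrder.Puig

variable {G : Type*} [Group G]

/-- `Z(L(S))` inside the ambient group. -/
def zpupper (S : Subgroup G) : Subgroup G := pupper S ⊓ centralizer (pupper S : Set G)

theorem zpupper_le (S : Subgroup G) : zpupper S ≤ S := inf_le_left.trans (pupper_le S)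

theorem map_zpupper {T : Type*} [Group T] (f : G →* T) (S : Subgroup G)
    (hf : Function.Injective (f.comp S.subtype)) : (zpupper S).map f = zpupper (S.map f) := by
  have h1 := map_puigSubgroup_subtype S
  have h2 := map_puigSubgroup (f.comp S.subtype) hf
  rw [MonoidHom.range_comp, range_subtype] at h2
  have h3 := CfsgLib.OddOrder.SylowLocal.map_inf_centralizer S.subtype S.subtype_injective
    (Cfsg.puigSubgroup S)
  have h4 := CfsgLib.OddOrder.SylowLocal.map_inf_centralizer (f.comp S.subtype) hf
    (Cfsg.puigSubgroup S)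
  rw [h1] at h3
  rw [h2] at h4
  rw [zpupper, ← h3, Subgroup.map_map, h4, zpupper]

variable [Finite G]

theorem normalizer_le_normalizer_zpupper (S : Subgroup G) :
    normalizer (S : Set G) ≤ normalizer (zpupper S : Set G) := by
  intro g hg
  rw [mem_normalizer_iff_map_conj_eq] at hg ⊢
  refine (map_zpupper _ S ((MulAut.conj g).injective.comp S.subtype_injective)).trans ?_
  exact congrArg zpupper hg

theorem normalizer_pupper_le (S : Subgroup G) :
    normalizer (pupper S : Set G) ≤ normalizer (zpupper S : Set G) := by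
  intro g hg
  rw [mem_normalizer_iff_map_conj_eq] at hg ⊢
  show (pupper S ⊓ centralizer (pupper S : Set G)).map _ = _
  refine (CfsgLib.OddOrder.SylowLocal.map_inf_centralizer _ (MulAut.conj g).injective _).trans ?_
  rw [zpupper]
  exact congrArg (fun L : Subgroup G => L ⊓ centralizer (L : Set G)) hg

theorem zpupper_ne_bot {p : ℕ} [Fact p.Prime] {S : Subgroup G} (hS : IsPGroup p S) (hne : S ≠ ⊥) :
    zpupper S ≠ ⊥ := by
  intro h
  have hL : pupper S ≠ ⊥ := fun e => hne (le_bot_iff.1 (by
    have := (centralizer_le S hS).2.2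
    rwa [e, coe_bot, show centralizer ({1} : Set G) = ⊤ from
      eq_top_iff.2 (fun x _ => mem_centralizer_iff.2 (by simp)), inf_top_eq] at this))
  haveI : Nontrivial (pupper S) := (nontrivial_iff_ne_bot _).2 hL
  haveI := (hS.to_le (pupper_le S)).center_nontrivial
  obtain ⟨⟨z, hz⟩, hz1⟩ := exists_ne (1 : center (pupper S))
  refine hz1 (Subtype.ext (Subtype.ext ?_))
  have : (z : G) ∈ zpupper S := ⟨z.2, mem_centralizer_iff.2 fun y hy =>
    congrArg Subtype.val (mem_center_iff.1 hz ⟨y, hy⟩)⟩
  rw [h, mem_bot] at this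
  exact this

/-- Puig's theorem as a factorisation. -/
theorem sup_normalizer_zpupper [Group.IsSolvable G] {p : ℕ} [Fact p.Prime]
    (hodd : Odd (Nat.card G)) (hp : p ≠ 2) (S : Sylow p G) :
    Cfsg.pPrimeCore p G ⊔ normalizer (zpupper (S : Subgroup G) : Set G) = ⊤ := by
  set O := Cfsg.pPrimeCore p G with hO
  set q := QuotientGroup.mk' O with hq
  have hsurj : Function.Surjective q := QuotientGroup.mk'_surjective O
  have hinj : Function.Injective (q.comp (S : Subgroup G).subtype) := by
    rw [injective_iff_map_eq_one]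
    intro x hx
    obtain ⟨k, hk⟩ := S.isPGroup' x
    refine orderOf_eq_one_iff.1 (Nat.eq_one_of_dvd_coprimes
      ((CfsgLib.Solvable.Cores.coprime_card_pPrimeCore (G := G) p).pow_right k) ?_
      (orderOf_dvd_of_pow_eq_one hk))
    rw [← orderOf_coe]
    exact Subgroup.orderOf_dvd_natCard O ((QuotientGroup.eq_one_iff _).1 hx)
  set W := zpupper (S : Subgroup G) with hW
  have hn : (W.map q).Normal := by
    rw [hW, map_zpupper q _ hinj]
    have hodd' : Odd (Nat.card (G ⧸ O)) := hodd.of_dvd_nat (card_quotient_dvd_card O)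
    have := center_pupper_normal hodd' hp (CfsgLib.Components.pPrimeCore_quotient_eq_bot)
      (S.mapSurjective hsurj)
    rwa [Sylow.coe_mapSurjective] at this
  haveI : (Cfsg.pPrimeCore p G ⊔ W).Normal := by
    rw [sup_comm, ← hO, show W ⊔ O = (W.map q).comap q by
      rw [comap_map_eq, hq, QuotientGroup.ker_mk']]
    exact hn.comap q
  exact CfsgLib.OddOrder.SylowLocal.pPrimeCore_sup_normalizer W
    (S.isPGroup'.to_le (zpupper_le _))

end CfsgLib.LocalEven.SwapInjective
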