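import Cfsg.Agent.Lib.LocalEven.SwapInjective.Setup
import Cfsg.Agent.Lib.LocalEven.SwapInjective.Action
import Cfsg.Agent.Lib.LocalEven.SwapInjective.PuigCentre
import Cfsg.Agent.Lib.Components.Constrained

/-!
# Involutions with a common fixed point agree nowhere else

In a group with a strongly embedded subgroup and two commuting involutions, two involutions fixing
the same coset and agreeing at another coset agree everywhere.
-/

set_option autoImplicit false

namespace CfsgLib.LocalEven.SwapInjective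

open Subgroup MulAction CfsgLib.Involution.Dihedral CfsgLib.Involution
  CfsgLib.LocalEven.BenderTransitive CfsgLib.OddOrder.Puig
open scoped commutatorElement Pointwise

universe u

variable {G : Type u} [Group G] [Finite G]

theorem exists_normalizer_not_mem {p : ℕ} [Fact p.Prime] {K K₁ : Subgroup G} (hK : IsPGroup p K)
    (hlt : K₁ < K) : ∃ x ∈ K, x ∈ normalizer (K₁ : Set G) ∧ x ∉ K₁ := by
  haveI := hK.isNilpotent
  have hne : K₁.subgroupOf K < ⊤ := lt_top_iff_ne_top.2 fun h => hlt.not_ge (subgroupOf_eq_top.1 h)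
  obtain ⟨⟨x, hxK⟩, hxN, hx⟩ :=
    SetLike.exists_of_lt (Group.normalizerCondition_of_isNilpotent (K₁.subgroupOf K) hne)
  refine ⟨x, hxK, Coprime.mem_normalizer_of_conj_map_le fun y hy => ?_, fun h => hx h⟩
  exact mem_subgroupOf.1 ((mem_normalizer_iff.1 hxN ⟨y, hlt.le hy⟩).1 hy)

/-- Elements of a subgroup of odd order factor through the normaliser of `Z(L(P))`. -/
theorem exists_factor {p : ℕ} [hp : Fact p.Prime] (hp2 : p ≠ 2) {D P : Subgroup G}
    (hD : Odd (Nat.card D)) (hP : P ≤ D)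
    (hPc : Nat.card P = p ^ (Nat.card D).factorization p) {d : G} (hd : d ∈ D) :
    ∃ n ∈ D, n ∈ normalizer (zpupper P : Set G) ∧
      ∃ x ∈ (Cfsg.pPrimeCore p D).map D.subtype, d = n * x := by
  haveI : Group.IsSolvable D := CfsgLib.OddOrder.Final.oddSolvable D hD
  obtain ⟨S, hS⟩ := Coprime.exists_sylow_map_eq hP hPc
  have h : (⟨d, hd⟩ : D) ∈
      normalizer (zpupper (S : Subgroup D) : Set D) ⊔ Cfsg.pPrimeCore p D := by
    rw [sup_comm, sup_normalizer_zpupper hD hp2 S]; exact mem_top _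
  obtain ⟨n, hn, x, hx, e⟩ := mem_sup_of_normal_right.1 h
  refine ⟨n, n.2, ?_, x, ⟨x, hx, rfl⟩, (congrArg Subtype.val e).symm⟩
  have h1 := le_normalizer_map (H := zpupper (S : Subgroup D)) D.subtype ⟨n, hn, rfl⟩
  rwa [map_zpupper D.subtype (S : Subgroup D)
    (D.subtype_injective.comp (S : Subgroup D).subtype_injective), hS] at h1

variable {H : Subgroup G} {u : G} {c a : G ⧸ H} {r : ℕ} {P R : Subgroup G}

/-- A subgroup whose orbit contains the fixed points of the swaps of `(a, u • a)`. -/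
theorem Setup.false_of_orbit (s : Setup H u c a r P R) {u' : G} (hu' : orderOf u' = 2)
    (hne' : u ≠ u') (hu'c : u' • c = c) (hag : u • a = u' • a) {Γ N : Subgroup G} (huΓ : u ∈ Γ)
    {w : G} (hwΓ : w ∈ Γ) (hw : orderOf w = 2) (huw : Commute u w) (hne : u ≠ w)
    (ha : ∃ γ ∈ Γ, γ • c = a) (hcent : ∀ d ∈ stab2 a (u • a), ∃ γ ∈ Γ, γ • c = d • c)
    (hN : N ≠ ⊥) (hNc : N ≤ stabilizer G c) (hΓN : Γ ≤ normalizer (N : Set G)) : False := by
  set S : Set (G ⧸ H) := {e | ∃ γ ∈ Γ, γ • c = e} with hS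
  have hclosed : Closed S := by
    rintro _ ⟨γ, hγ, rfl⟩ y ⟨γ', hγ', rfl⟩ hxy z hz hzx e hze
    obtain ⟨δ, hδ, hδa⟩ := ha
    have hm₁ : (γ⁻¹ * γ') • c ≠ c := fun h => hxy (by rwa [mul_smul, inv_smul_eq_iff, eq_comm] at h)
    have hm₂ : (δ⁻¹ * (u * δ)) • c ≠ c := fun h => s.ab_ne (by
      rw [mul_smul, inv_smul_eq_iff, mul_smul, hδa] at h
      exact h.symm)
    obtain ⟨g₂, hg₂, hg₂c, hg₂y⟩ := orbit_pair s.se s.inv huΓ s.fix hw hwΓ huw hne
      (mul_mem (inv_mem hγ) hγ') (mul_mem (inv_mem hδ) (mul_mem huΓ hδ)) hm₁ hm₂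
    set g := δ * g₂ * γ⁻¹ with hg
    have hgx : g • γ • c = a := by rw [hg, mul_smul, inv_smul_smul, mul_smul, hg₂c, hδa]
    have hgy : g • γ' • c = u • a := by
      rw [hg, mul_smul, ← mul_smul γ⁻¹ γ', mul_smul δ g₂, hg₂y, ← mul_smul,
        mul_inv_cancel_left, mul_smul, hδa]
    obtain ⟨d, hd, hdv⟩ := exists_conj_swap s.se s.ab_ne s.inv rfl (u' := g * z * g⁻¹)
      ((orderOf_conj g z).trans hz)
      (by rw [← hgx, smul_smul, inv_mul_cancel_right, mul_smul, hzx, hgy, hgx])
    have hfix1 : (g * z * g⁻¹) • g • e = g • e := by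
      rw [smul_smul, inv_mul_cancel_right, mul_smul, hze]
    have hfix2 : (g * z * g⁻¹) • d • c = d • c := by
      rw [← hdv, smul_smul, inv_mul_cancel_right, mul_smul, s.fix]
    have he := SE.fixed_unique s.se ((orderOf_conj g z).trans hz) hfix1 hfix2
    obtain ⟨ε, hε, hεc⟩ := hcent d hd
    exact ⟨g⁻¹ * ε, mul_mem (inv_mem (mul_mem (mul_mem hδ hg₂) (inv_mem hγ))) hε,
      by rw [mul_smul, hεc, ← he, inv_smul_smul]⟩
  refine false_of_closed s.se s.comm s.core s.below hclosed ?_ (s₁ := c) (s₂ := a)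
    ⟨1, one_mem _, one_smul _ _⟩ ha (Ne.symm s.ne) s.inv hu' hne' s.fix hu'c s.ne hag
  intro h
  refine hN ((Subgroup.eq_bot_iff_forall _).2 fun k hk =>
    smul_eq_of_normalCore_bot s.core fun p => ?_)
  obtain ⟨γ, hγ, rfl⟩ := Set.eq_univ_iff_forall.1 h p
  exact fix_orbit hΓN hNc hγ hk

/-- The case of a Sylow subgroup of `G_{a,b}` fixing `c`. -/
theorem Setup.false_of_eq (s : Setup H u c a r P R) {u' : G} (hu' : orderOf u' = 2)
    (hne' : u ≠ u') (hu'c : u' • c = c) (hag : u • a = u' • a) (hPR : P = R) : False := by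
  haveI := Fact.mk s.prime
  set D := stab2 a (u • a) with hD
  set D' := stab2 c a with hD'
  have hDD' : Nat.card D' = Nat.card D := card_stab2_eq s.se s.inv s.fix s.ne
  have hPc : P ≤ stabilizer G c := hPR ▸ s.R_le_c
  have hPD' : P ≤ D' := le_inf hPc (s.P_le.trans inf_le_left)
  have hP'card : Nat.card P = r ^ (Nat.card D').factorization r := by rw [hDD']; exact s.P_card
  have hD'odd : Odd (Nat.card D') := hDD' ▸ s.odd_D
  set X := (Cfsg.pPrimeCore r D).map D.subtype with hX
  set X' := (Cfsg.pPrimeCore r D').map D'.subtype with hX'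
  have hXN : ∀ (E : Subgroup G), normalizer (E : Set G) ≤
      normalizer ((Cfsg.pPrimeCore r E).map E.subtype : Set G) := fun E g hg => by
    haveI : (Cfsg.pPrimeCore r E).Characteristic := inferInstance
    exact Coprime.FixedPointFreeOnModule.mem_normalizer_map_of_char _ hg
  have hXc : X ≤ stabilizer G c := s.core_fix
  have hXD' : X ≤ D' := le_inf hXc ((map_subtype_le _).trans inf_le_left)
  have hXX' : X ≤ X' := by
    haveI : Group.IsSolvable D' := CfsgLib.OddOrder.Final.oddSolvable D' hD'odd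
    obtain ⟨S, hS⟩ := Coprime.exists_sylow_map_eq hPD' hP'card
    have h1 : X.subgroupOf D' ≤ Cfsg.pPrimeCore r D' := by
      refine CfsgLib.OddOrder.SylowLocal.le_pPrimeCore_of_sylow S _ ?_ ?_
      · rw [Nat.card_congr (subgroupOfEquivOfLe hXD').toEquiv, hX, Coprime.card_map_subtype]
        exact Solvable.Cores.coprime_card_pPrimeCore r
      · intro t ht
        have htP : (t : G) ∈ P := hS ▸ ⟨t, ht, rfl⟩
        refine Coprime.mem_normalizer_of_conj_map_le fun y hy => ?_
        exact (conj_mem_of_mem_normalizer (hXN D (le_normalizer (s.P_le htP)))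
          (mem_subgroupOf.1 hy) : (t : G) * y * (t : G)⁻¹ ∈ X)
    rw [hX', ← Subgroup.map_subgroupOf_eq_of_le hXD']
    exact Subgroup.map_mono h1
  have hXeq : X = X' := by
    refine Subgroup.eq_of_le_of_card_ge hXX' ?_
    obtain ⟨g, hgc, hga⟩ := exists_map_pair s.se s.comm (Ne.symm s.ne) s.ab_ne
    have e1 : D'.map (MulAut.conj g).toMonoidHom = D := by
      ext k
      simp only [hD', hD, mem_map_equiv, MulAut.conj_symm_apply, Subgroup.mem_inf,
        mem_stabilizer_iff, mul_smul, inv_smul_eq_iff, hgc, hga]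
    let e : D' ≃* D :=
      (D'.equivMapOfInjective _ (MulAut.conj g).injective).trans (MulEquiv.subgroupCongr e1)
    have h2 := Subgroup.card_le_of_le (CfsgLib.Components.pPrimeCore_map_le r e.toMonoidHom e.surjective)
    rw [Subgroup.card_map_of_injective (show Function.Injective e.toMonoidHom from e.injective)] at h2
    rwa [hX', hX, Coprime.card_map_subtype, Coprime.card_map_subtype]
  set W := zpupper P with hW
  set E := X ⊔ W with hE
  have hNE : ∀ g, g ∈ normalizer (X : Set G) → g ∈ normalizer (W : Set G) →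
      g ∈ normalizer (E : Set G) := fun g h1 h2 => by
    rw [hE, mem_normalizer_iff_map_conj_eq, Subgroup.map_sup, mem_normalizer_iff_map_conj_eq.1 h1,
      mem_normalizer_iff_map_conj_eq.1 h2]
  set Γ := normalizer (E : Set G) with hΓ
  have hDΓ : D ≤ Γ := fun d hd => by
    obtain ⟨n, hnD, hn, x, hx, rfl⟩ := exists_factor s.r_ne_two s.odd_D s.P_le s.P_card hd
    exact mul_mem (hNE n (hXN D (le_normalizer hnD)) hn) (le_normalizer (mem_sup_left hx))
  have hD'Γ : D' ≤ Γ := fun d hd => by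
    obtain ⟨n, hnD, hn, x, hx, rfl⟩ := exists_factor s.r_ne_two hD'odd hPD' hP'card hd
    refine mul_mem (hNE n ?_ hn) (le_normalizer (mem_sup_left (hXeq ▸ hx)))
    rw [hXeq]
    exact hXN D' (le_normalizer hnD)
  have huΓ : u ∈ Γ := hNE u (hXN D (swap_mem_normalizer s.inv rfl))
    (normalizer_le_normalizer_zpupper P s.u_P)
  obtain ⟨t, ht, htc, htP⟩ := exists_swap_normalizing s.se (Ne.symm s.ne) hPD' hP'card
  have htΓ : t ∈ Γ := hNE t (hXeq ▸ hXN D' (swap_mem_normalizer ht htc))
    (normalizer_le_normalizer_zpupper P htP)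
  obtain ⟨w, hw, hwu, hwc⟩ := BenderTransitive.exists_commuting s.se s.comm s.inv
  have hwfix : w • c = c := SE.commute_fixes s.se s.inv s.fix hwc
  obtain ⟨d, hd, hdu⟩ := exists_conj_fixing s.se (Ne.symm s.ne) s.inv s.fix hw hwfix
  have hwΓ : w ∈ Γ := hdu ▸ mul_mem (mul_mem (hD'Γ hd) huΓ) (inv_mem (hD'Γ hd))
  refine s.false_of_orbit hu' hne' hu'c hag huΓ hwΓ hw hwc.symm hwu.symm ⟨t, htΓ, htc⟩
    (fun d hd => ⟨d, hDΓ hd, rfl⟩) ?_ (sup_le hXc ((zpupper_le P).trans hPc)) le_rfl
  intro h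
  refine zpupper_ne_bot s.P_group (hPR ▸ s.R_ne_bot) ?_
  exact le_bot_iff.1 (h ▸ le_sup_right)

/-- The case of a Sylow subgroup of `G_{a,b}` moving `c`. -/
theorem Setup.false_of_lt (s : Setup H u c a r P R) {u' : G} (hu' : orderOf u' = 2)
    (hne' : u ≠ u') (hu'c : u' • c = c) (hag : u • a = u' • a) (hPR : P ≠ R) : False := by
  haveI := Fact.mk s.prime
  have hlt : R < P := lt_of_le_of_ne s.R_le_P (Ne.symm hPR)
  obtain ⟨x₀, hx₀P, hx₀N, hx₀⟩ := exists_normalizer_not_mem s.P_group hlt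
  have hx₀c : x₀ • c ≠ c := fun h => hx₀ (s.R_eq ▸ ⟨hx₀P, mem_stabilizer_iff.2 h⟩)
  set N := normalizer (R : Set G) with hN
  obtain ⟨⟨γ₀, hγ₀, hγ₀c⟩, htr⟩ := s.orbit_of_witt (Γ := N) (Y := R) le_rfl s.R_le_c
    (fun x hx h => s.witt_R hx h) hx₀N hx₀c
  obtain ⟨w, hwN, hw, huw, hne⟩ := exists_commuting_of_moves s.se s.inv s.u_R s.fix htr
    ⟨γ₀, hγ₀, hγ₀c⟩ hx₀N hx₀c (mem_stab2.1 (s.P_le hx₀P)).1 (mem_stab2.1 (s.P_le hx₀P)).2
  set L := pupper R with hL
  set Y := zpupper R with hY
  have hNL : N ≤ normalizer (L : Set G) := normalizer_le_normalizer_pupper R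
  have hNY : N ≤ normalizer (Y : Set G) := normalizer_le_normalizer_zpupper R
  -- `u` does not centralise `L`
  have huL : u ∉ centralizer (L : Set G) := by
    intro h
    refine s.not_central (mem_centralizer_iff.2 fun ρ hρ => ?_)
    have hρ' : ⁅ρ, u⁆ ∈ R := by
      rw [commutatorElement_def, mul_assoc, mul_assoc, ← mul_assoc u]
      exact mul_mem hρ (conj_mem_of_mem_normalizer s.u_R (inv_mem hρ))
    have hcent : ⁅ρ, u⁆ ∈ centralizer (L : Set G) := by
      rw [commutatorElement_def]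
      refine mul_mem (mem_centralizer_iff.2 fun l hl => ?_) (inv_mem h)
      have h1 := mem_centralizer_iff.1 h _
        (conj_inv_mem_of_mem_normalizer (hNL (le_normalizer hρ)) hl)
      calc l * (ρ * u * ρ⁻¹) = ρ * (ρ⁻¹ * l * ρ * u) * ρ⁻¹ := by group
        _ = ρ * u * ρ⁻¹ * l := by rw [h1]; group
    have hL' : ⁅ρ, u⁆ ∈ L := (centralizer_le R s.R_group).2.2 ⟨hρ', hcent⟩
    set κ := ⁅ρ, u⁆ with hκ
    have hcomm' : κ * u = u * κ := mem_centralizer_iff.1 h κ hL'
    have hinv : u * κ * u⁻¹ = κ⁻¹ := by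
      rw [hκ, commutatorElement_inv, commutatorElement_def, commutatorElement_def, inv_eq s.inv]
      simp [mul_assoc, mul_self s.inv]
    rw [← hcomm', mul_inv_cancel_right] at hinv
    have hκ2 : κ ^ 2 = 1 := by
      rw [pow_two]; conv_lhs => arg 2; rw [hinv]
      exact mul_inv_cancel κ
    have hκ1 : κ = 1 := by
      refine orderOf_eq_one_iff.1 (Nat.eq_one_of_dvd_coprimes (a := 2)
        (Nat.coprime_two_left.2 s.odd_D) (orderOf_dvd_of_pow_eq_one hκ2) ?_)
      exact Subgroup.orderOf_dvd_natCard _ (s.R_le_D hρ')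
    exact (commutatorElement_eq_one_iff_commute.1 hκ1).eq
  -- quadratically acting elements of `P` fix `c`
  have hquad : ∀ {V : Subgroup G}, V ≤ R → N ≤ normalizer (V : Set G) →
      u ∉ centralizer (V : Set G) → ∀ {A : Subgroup G}, A ≤ P → IsMulCommutative A →
      V ≤ normalizer (A : Set G) → ∀ α ∈ A, α ∈ normalizer (V : Set G) → α ∈ R := by
    intro V hVR hNV huV A hAP hAc hVA α hα hαV
    refine s.R_eq ▸ ⟨hAP hα, mem_stabilizer_iff.2 ?_⟩
    refine quad_stabilizer s.se s.core s.below s.r_ne_two s.P_group s.inv s.u_P s.fix s.ne s.R_eq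
      s.R_le_D hγ₀ hγ₀c hw hwN huw hne (hVR.trans s.R_le_P) (hVR.trans s.R_le_c) hNV huV
      (hAP hα) hαV fun m hm => ?_
    have hmem : ⁅α, m⁆ ∈ A := by
      rw [commutatorElement_def, mul_assoc, mul_assoc, ← mul_assoc m]
      exact mul_mem hα (conj_mem_of_mem_normalizer (hVA hm) (inv_mem hα))
    haveI := hAc
    exact setLike_mul_comm hα hmem
  -- abelian subgroups of `P` normalised by `L`
  have hAR : ∀ A : Subgroup G, A ≤ P → IsMulCommutative A → L ≤ normalizer (A : Set G) → A ≤ R := by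
    intro A hAP hAc hLA
    by_contra hnot
    set K := L ⊔ A with hK
    have hKP : K ≤ P := sup_le ((pupper_le R).trans s.R_le_P) hAP
    have hlt' : K ⊓ R < K := lt_of_le_of_ne inf_le_left fun e =>
      hnot (le_trans (le_sup_right : A ≤ K) (inf_eq_left.1 e))
    obtain ⟨x, hxK, hxN, hx⟩ := exists_normalizer_not_mem (s.P_group.to_le hKP) hlt'
    have hxK' : x ∈ (K : Set G) := hxK
    rw [hK, coe_mul_of_left_le_normalizer_right L A hLA] at hxK'
    obtain ⟨l, hl, α, hα, rfl⟩ := hxK'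
    have hl1 : l ∈ K ⊓ R := ⟨mem_sup_left hl, pupper_le R hl⟩
    have hαN : α ∈ normalizer ((K ⊓ R : Subgroup G) : Set G) := by
      have := mul_mem (inv_mem (le_normalizer hl1 : l ∈ normalizer ((K ⊓ R : Subgroup G) : Set G))) hxN
      rwa [inv_mul_cancel_left] at this
    have hαR : α ∉ R := fun h => hx (mul_mem hl1 ⟨mem_sup_right hα, h⟩)
    refine hαR (hquad (pupper_le R) hNL huL hAP hAc hLA α hα ?_)
    have e : pupper (K ⊓ R) = L :=
      pupper_eq_of_le (le_inf le_sup_left (pupper_le R)) inf_le_right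
    have h2 := normalizer_le_normalizer_pupper _ hαN
    rwa [e] at h2
  -- comparison of the Puig series
  have hlow : ∀ Q : Subgroup G, R ≤ Q → Q ≤ P →
      plower Q ≤ plower R ∧ L ≤ pupper Q := by
    intro Q hRQ hQP
    have key : ∀ m : ℕ, pseq Q (2 * m) ≤ pseq R (2 * m) ∧
        pseq R (2 * m + 1) ≤ pseq Q (2 * m + 1) := by
      intro m
      induction m with
      | zero =>
        exact ⟨(bot_le : (⊥ : Subgroup G) ≤ _),
          pstep_le_iff.2 fun A hA hc _ => le_pstep (hA.trans hRQ) hc bot_le⟩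
      | succ m ih =>
        have e1 : pseq Q (2 * (m + 1)) ≤ pseq R (2 * (m + 1)) :=
          pstep_le_iff.2 fun A hA hc hn => le_pstep
            (hAR A (hA.trans hQP) hc (((iInf_le _ m).trans ih.2).trans hn)) hc (ih.2.trans hn)
        exact ⟨e1, pstep_le_iff.2 fun A hA hc hn => le_pstep (hA.trans hRQ) hc (e1.trans hn)⟩
    exact ⟨iSup_le fun m => (key m).1.trans (le_iSup (fun k => pseq R (2 * k)) m),
      le_iInf fun m => (iInf_le _ m).trans (key m).2⟩
  set W := zpupper P with hW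
  obtain ⟨hlowP, hupP⟩ := hlow P s.R_le_P le_rfl
  have hWR : W ≤ R := by
    refine le_trans ?_ (hlowP.trans (plower_le R))
    refine le_trans (le_inf (zpupper_le P) ?_) (centralizer_le P s.P_group).2.1
    exact inf_le_right.trans (Subgroup.centralizer_le (stable P).1)
  have hWY : W ≤ Y := by
    have h1 : W ≤ centralizer (L : Set G) := inf_le_right.trans (Subgroup.centralizer_le hupP)
    exact le_inf ((le_inf hWR h1).trans (centralizer_le R s.R_group).2.2) h1
  set Γ := normalizer (W : Set G) with hΓ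
  -- involutions normalising `R` normalise `W`
  have hinvW : ∀ t : G, orderOf t = 2 → t ∈ N → t ∈ Γ := by
    by_cases huY : u ∈ centralizer (Y : Set G)
    · intro t ht htN
      refine centralizer_le_normalizer _ (Subgroup.centralizer_le hWY ?_)
      obtain ⟨g, hg⟩ := isConj_iff.1 (SE.all_conj (orbit_se s.se s.inv s.u_R s.fix hγ₀
        (hγ₀c.symm ▸ s.ne)) (a := (⟨u, s.u_R⟩ : N)) (b := ⟨t, htN⟩)
        ((orderOf_mk u s.u_R).trans s.inv) ((orderOf_mk t htN).trans ht))
      have hg' : (g : G) * u * (g : G)⁻¹ = t := congrArg Subtype.val hg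
      rw [← hg', mem_centralizer_iff]
      intro y hy
      have h4 := mem_centralizer_iff.1 huY _ (conj_inv_mem_of_mem_normalizer (hNY g.2) hy)
      calc y * ((g : G) * u * (g : G)⁻¹) = (g : G) * ((g : G)⁻¹ * y * g * u) * (g : G)⁻¹ := by group
        _ = (g : G) * u * (g : G)⁻¹ * y := by rw [h4]; group
    · -- here `L(P) = L(R)`
      set P' := P ⊓ normalizer (L : Set G) with hP'
      have hRP' : R ≤ P' := le_inf s.R_le_P (le_normalizer.trans hNL)
      obtain ⟨hlow', -⟩ := hlow P' hRP' inf_le_left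
      have hYlow : Y ≤ plower P' := by
        refine le_trans (le_inf ((zpupper_le R).trans hRP') ?_)
          (centralizer_le P' (s.P_group.to_le inf_le_left)).2.1
        exact inf_le_right.trans (Subgroup.centralizer_le (hlow'.trans (stable R).1))
      have hup : pupper P' ≤ R := by
        rw [← (stable P').2.1]
        exact pstep_le_iff.2 fun A hA hc hn α hα =>
          hquad (zpupper_le R) hNY huY (hA.trans inf_le_left) hc (hYlow.trans hn) α hα
            (normalizer_pupper_le R (hA hα).2)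
      have hup' : pupper P' = L := (pupper_eq_of_le hup hRP').symm
      have hP'eq : P' = P := by
        by_contra h
        obtain ⟨x, hxP, hxN, hx⟩ :=
          exists_normalizer_not_mem s.P_group (lt_of_le_of_ne inf_le_left h)
        exact hx ⟨hxP, hup' ▸ normalizer_le_normalizer_pupper P' hxN⟩
      intro t _ htN
      have e : W = Y := by
        rw [hW, hY, zpupper, zpupper, ← hP'eq, hup', hL]
      rw [hΓ, e]
      exact hNY htN
  -- conclusion
  obtain ⟨i, hiN, hi, hic, -⟩ := exists_swap_mem s.se (N := N) (Ne.symm s.ne) s.inv s.fix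
    (v := γ₀ * u * γ₀⁻¹) ((orderOf_conj γ₀ u).trans s.inv)
    (by rw [← hγ₀c, smul_smul, inv_mul_cancel_right, mul_smul, s.fix]) s.u_R
    (mul_mem (mul_mem hγ₀ s.u_R) (inv_mem hγ₀))
  refine s.false_of_orbit hu' hne' hu'c hag (Γ := Γ) (hinvW u s.inv s.u_R) (hinvW w hw hwN) hw huw
    hne ⟨i, hinvW i hi hiN, hic⟩ ?_ (zpupper_ne_bot s.P_group ?_) (hWR.trans s.R_le_c) le_rfl
  · intro d hd
    obtain ⟨n, -, hn, x, hx, rfl⟩ := exists_factor s.r_ne_two s.odd_D s.P_le s.P_card hd
    exact ⟨n, hn, by rw [mul_smul, mem_stabilizer_iff.1 (s.core_fix hx)]⟩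
  · exact fun h => s.R_ne_bot (le_bot_iff.1 (h ▸ s.R_le_P))

omit [Finite G] in
theorem mem_of_mk_mem {C : Subgroup G} [C.Normal] {H : Subgroup G} (hC : C ≤ H) {g : G}
    (h : QuotientGroup.mk' C g ∈ H.map (QuotientGroup.mk' C)) : g ∈ H := by
  obtain ⟨k, hk, e⟩ := h
  have h1 : k⁻¹ * g ∈ C := QuotientGroup.eq.1 e
  simpa using mul_mem hk (hC h1)

theorem swapInj_aux : ∀ n : ℕ, SwapInjBelow.{u} n := by
  intro n
  induction n using Nat.strong_induction_on with
  | _ n ih =>
  intro G _ _ H hn hH hcomm u u' hu hu' c a huc hu'c hac hag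
  classical
  have hIH : SwapInjBelow.{u} (Nat.card G) := ih _ hn
  by_cases hcore : H.normalCore = ⊥
  · by_contra hnot
    have hne : u ≠ u' := fun h => hnot (by rw [← h, mul_self hu]; exact one_mem _)
    obtain ⟨r, P, R, s⟩ := exists_setup hH hcomm hcore hIH hu hu' hne huc hu'c hac hag
    by_cases hPR : P = R
    · exact s.false_of_eq hu' hne hu'c hag hPR
    · exact s.false_of_lt hu' hne hu'c hag hPR
  · set C := H.normalCore with hC
    have hCH : C ≤ H := H.normalCore_le
    have hCodd : ∀ t ∈ C, orderOf t ≠ 2 := by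
      intro t ht ht2
      have hfix : ∀ p : G ⧸ H, t • p = p := by
        intro p
        induction p using QuotientGroup.induction_on with
        | H g =>
          rw [SE.fixes_mk_iff]
          simpa using ht g⁻¹
      exact hac (SE.fixed_unique hH ht2 (hfix a) (hfix c))
    set π := QuotientGroup.mk' C with hπ
    have hπ2 : ∀ t : G, orderOf t = 2 → orderOf (π t) = 2 := fun t ht =>
      orderOf_eq_two (by rw [← map_mul, mul_self ht, map_one])
        fun h => hCodd t ((QuotientGroup.eq_one_iff t).1 h) ht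
    have hπH : ∀ {g : G}, π g ∈ H.map π → g ∈ H := fun h => mem_of_mk_mem hCH h
    have hcard : Nat.card (G ⧸ C) < Nat.card G := by
      have h1 := C.card_mul_index
      have h2 : 1 < Nat.card C := (Subgroup.one_lt_card_iff_ne_bot C).2 hcore
      rw [← h1]
      exact lt_mul_of_one_lt_left (Nat.pos_of_ne_zero index_ne_zero_of_finite) h2
    have hSE : Cfsg.IsStronglyEmbedded (H.map π) := by
      refine ⟨fun h => hH.1 (eq_top_iff.2 fun g _ => hπH (h ▸ mem_top _)), ?_, fun g hg => ?_⟩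
      · obtain ⟨t, htH, ht⟩ := Basic.exists_involution_of_even H hH.2.1
        rw [even_iff_two_dvd, ← hπ2 t ht]
        exact Subgroup.orderOf_dvd_natCard _ (mem_map_of_mem π htH)
      · obtain ⟨g, rfl⟩ := QuotientGroup.mk'_surjective C g
        have hgH : g ∉ H := fun h => hg (mem_map_of_mem π h)
        refine (hH.2.2 g hgH).of_dvd_nat ((Subgroup.card_dvd_of_le ?_).trans
          (Subgroup.card_map_dvd _ π))
        rintro _ ⟨⟨k, hk, rfl⟩, ⟨_, ⟨l, hl, rfl⟩, e⟩⟩
        refine ⟨k, ⟨hk, g⁻¹ * k * g, ?_, by simp [mul_assoc]⟩, rfl⟩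
        refine hπH ?_
        change π g * π l * (π g)⁻¹ = π k at e
        rw [map_mul, map_mul, map_inv, ← e]
        refine ⟨l, hl, ?_⟩
        group
    induction a using QuotientGroup.induction_on with
    | H ga =>
    induction c using QuotientGroup.induction_on with
    | H gc =>
    have hmap : ∀ {x y : G}, (x : G ⧸ H) = y →
        ((π x : G ⧸ C) : (G ⧸ C) ⧸ H.map π) = π y := fun {x y} h => by
      rw [QuotientGroup.eq, ← map_inv, ← map_mul]
      exact mem_map_of_mem π (QuotientGroup.eq.1 h)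
    have hact : ∀ x g : G, (π x) • ((π g : G ⧸ C) : (G ⧸ C) ⧸ H.map π) = (π (x * g) : G ⧸ C) :=
      fun x g => by rw [MulAction.Quotient.smul_mk, smul_eq_mul, map_mul]
    rw [MulAction.Quotient.smul_mk, smul_eq_mul] at huc hu'c
    rw [MulAction.Quotient.smul_mk, MulAction.Quotient.smul_mk, smul_eq_mul, smul_eq_mul] at hag
    have h := ih _ hn (G ⧸ C) (H.map π) hcard hSE (by
      obtain ⟨x, y, hx, hy, hxy, hc⟩ := hcomm
      refine ⟨π x, π y, hπ2 x hx, hπ2 y hy, fun e => ?_, hc.map π⟩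
      refine hCodd (x * y) ((QuotientGroup.eq_one_iff _).1 ?_) (orderOf_eq_two ?_ ?_)
      · change π (x * y) = 1
        rw [map_mul, e, mul_self (hπ2 y hy)]
      · rw [hc.symm.mul_mul_mul_comm, mul_self hx, mul_self hy, one_mul]
      · exact fun h => hxy ((mul_eq_one_iff_eq_inv.1 h).trans (inv_eq hy)))
      (π u) (π u') (hπ2 u hu) (hπ2 u' hu') (π gc : G ⧸ C) (π ga : G ⧸ C)
      ((hact _ _).trans (hmap huc)) ((hact _ _).trans (hmap hu'c))
      (fun e => hac (QuotientGroup.eq.2 (hπH (by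
        rw [map_mul, map_inv]; exact QuotientGroup.eq.1 e))))
      ((hact _ _).trans ((hmap hag).trans (hact _ _).symm))
    intro g
    refine hπH ?_
    rw [map_mul, map_mul, map_inv, map_mul]
    exact h (π g)

/-- Two involutions with a common fixed coset which agree at another coset agree modulo the normal
core. -/
theorem swapInj {G : Type u} [Group G] [Finite G] {H : Subgroup G}
    (hH : Cfsg.IsStronglyEmbedded H)
    (hcomm : ∃ x y : G, orderOf x = 2 ∧ orderOf y = 2 ∧ x ≠ y ∧ Commute x y) : SwapInj H :=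
  swapInj_aux (Nat.card G + 1) G H (Nat.lt_succ_self _) hH hcomm

end CfsgLib.LocalEven.SwapInjective
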