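import Mathlib

/-!
# Quadratic units in a ring of odd characteristic

An involution in a group generated by two quadratic units is central in it, and a unit `e` whose
products `a * e` and `a * e⁻¹` with a commuting quadratic unit `a` are quadratic is itself
quadratic.
-/

set_option autoImplicit false

namespace CfsgLib.LocalEven.SwapInjective

variable {R : Type*} [Ring R]

/-- `a` is quadratic: `(a - 1) ^ 2 = 0`. -/
def Quad (a : Rˣ) : Prop := ((a : R) - 1) * ((a : R) - 1) = 0

theorem two_cancel {N : ℕ} (hN : Odd N) (hR : (N : R) = 0) {z : R} (h : z + z = 0) : z = 0 := by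
  obtain ⟨k, rfl⟩ := hN
  have h1 : ((2 * k + 1 : ℕ) : R) * z = 0 := by rw [hR, zero_mul]
  push_cast at h1
  rw [show (2 * (k : R) + 1) * z = (k : R) * (z + z) + z by
    rw [add_mul, one_mul, mul_add, mul_assoc, two_mul]] at h1
  rwa [h, mul_zero, zero_add] at h1

theorem Quad.conj {a : Rˣ} (h : Quad a) (g : Rˣ) : Quad (g * a * g⁻¹) := by
  unfold Quad at h ⊢
  have e : ((g * a * g⁻¹ : Rˣ) : R) - 1 = (g : R) * ((a : R) - 1) * ((g⁻¹ : Rˣ) : R) := by
    rw [Units.val_mul, Units.val_mul, mul_sub, sub_mul, mul_one, Units.mul_inv]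
  rw [e, show (g : R) * ((a : R) - 1) * ((g⁻¹ : Rˣ) : R) *
      ((g : R) * ((a : R) - 1) * ((g⁻¹ : Rˣ) : R)) =
      (g : R) * (((a : R) - 1) * ((((g⁻¹ : Rˣ) : R) * (g : R)) * ((a : R) - 1))) *
        ((g⁻¹ : Rˣ) : R) by simp only [mul_assoc]]
  rw [Units.inv_mul, one_mul, h, mul_zero, zero_mul]

theorem Quad.map {S : Type*} [Ring S] {a : Rˣ} (h : Quad a) (f : R →+* S) :
    Quad (Units.map (f : R →* S) a) := by
  unfold Quad at h ⊢
  rw [show ((Units.map (f : R →* S) a : Sˣ) : S) = f a from rfl, ← f.map_one, ← f.map_sub,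
    ← f.map_mul, h, f.map_zero]

theorem Quad.val_inv {a : Rˣ} (h : Quad a) : ((a⁻¹ : Rˣ) : R) = 1 - ((a : R) - 1) := by
  refine Units.inv_eq_of_mul_eq_one_right ?_
  unfold Quad at h
  calc (a : R) * (1 - ((a : R) - 1)) = 1 - ((a : R) - 1) * ((a : R) - 1) := by noncomm_ring
    _ = 1 := by rw [h, sub_zero]

/-- Three commuting quadratic conjugates. -/
theorem quad_of_mul {N : ℕ} (hN : Odd N) (hR : (N : R) = 0) {a e : Rˣ} (hc : Commute a e)
    (ha : Quad a) (h1 : Quad (a * e)) (h2 : Quad (a * e⁻¹)) : Quad e := by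
  have hi := ha.val_inv
  unfold Quad at ha h1 h2 ⊢
  set n := (a : R) - 1 with hn
  set m := ((a * e : Rˣ) : R) - 1 with hm
  have hnm : n * m = m * n := by
    have h : Commute (a : R) ((a * e : Rˣ) : R) := (((Commute.refl a).mul_right hc).map (Units.coeHom R))
    exact ((h.sub_left (Commute.one_left _)).sub_right (Commute.one_right _)).eq
  have hei : ((e⁻¹ : Rˣ) : R) = (1 - m) * (1 + n) := by
    have h := Quad.val_inv (a := a * e) h1
    rw [mul_inv_rev, Units.val_mul] at h
    calc ((e⁻¹ : Rˣ) : R) = ((e⁻¹ : Rˣ) : R) * ((a⁻¹ : Rˣ) : R) * (a : R) := by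
          rw [mul_assoc, Units.inv_mul, mul_one]
      _ = (1 - m) * (1 + n) := by rw [h, ← hm, hn, add_sub_cancel]
  have he : (e : R) = (1 - n) * (1 + m) := by
    calc (e : R) = ((a⁻¹ : Rˣ) : R) * ((a * e : Rˣ) : R) := by
          rw [Units.val_mul, ← mul_assoc, Units.inv_mul, one_mul]
      _ = _ := by rw [hi, hm, add_sub_cancel]
  have hmn : n * m = 0 := by
    have hk : ((a * e⁻¹ : Rˣ) : R) - 1 = n + n - m - (n * m + n * m) := by
      rw [Units.val_mul, hei, show (a : R) = 1 + n by rw [hn, add_sub_cancel]]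
      calc (1 + n) * ((1 - m) * (1 + n)) - 1
          = n + n + n * n - m - m * n - n * m - n * (m * n) := by noncomm_ring
        _ = n + n - m - (n * m + n * m) := by
          rw [← hnm, ← mul_assoc, ha, zero_mul]; abel
    rw [hk] at h2
    have hexp : (n + n - m - (n * m + n * m)) * (n + n - m - (n * m + n * m)) =
        -(n * m + n * m + (n * m + n * m)) := by
      have a1 : n * (n * m) = 0 := by rw [← mul_assoc, ha, zero_mul]
      have a2 : n * m * n = 0 := by rw [mul_assoc, ← hnm, a1]
      have a3 : m * (n * m) = 0 := by rw [← mul_assoc, ← hnm, mul_assoc, h1, mul_zero]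
      have a4 : n * m * m = 0 := by rw [mul_assoc, h1, mul_zero]
      have a5 : n * m * (n * m) = 0 := by rw [mul_assoc, a3, mul_zero]
      simp only [mul_add, add_mul, mul_sub, sub_mul, ha, h1, a1, a2, a3, a4, a5, ← hnm]
      abel
    rw [hexp, neg_eq_zero] at h2
    exact two_cancel hN hR (two_cancel hN hR h2)
  have : (e : R) - 1 = m - n := by
    rw [he]
    calc (1 - n) * (1 + m) - 1 = m - n - n * m := by noncomm_ring
      _ = m - n := by rw [hmn, sub_zero]
  rw [this]
  calc (m - n) * (m - n) = m * m - m * n - n * m + n * n := by noncomm_ring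
    _ = 0 := by rw [ha, h1, ← hnm, hmn]; simp

/-- An involution in the group generated by two quadratic units commutes with both. -/
theorem commute_of_involution {N : ℕ} (hN : Odd N) (hR : (N : R) = 0) {a b : Rˣ} (ha : Quad a)
    (hb : Quad b) {s : Rˣ} (hs : s ∈ Subgroup.closure ({a, b} : Set Rˣ)) (h2 : s * s = 1) :
    Commute s a ∧ Commute s b := by
  have hai := ha.val_inv
  have hbi := hb.val_inv
  unfold Quad at ha hb
  set n := (a : R) - 1 with hn
  set m := (b : R) - 1 with hm
  set C := Subring.centralizer ({n, m} : Set R) with hC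
  have mem_C : ∀ {z : R}, z ∈ C ↔ n * z = z * n ∧ m * z = z * m := by
    intro z; rw [hC, Subring.mem_centralizer_iff]; simp
  set τ := n * m + m * n with hτ
  have hτC : τ ∈ C := mem_C.2
    ⟨by
      calc n * τ = n * n * m + n * m * n := by rw [hτ]; noncomm_ring
        _ = n * m * n + m * (n * n) := by rw [ha]; simp
        _ = τ * n := by rw [hτ]; noncomm_ring,
     by
      calc m * τ = m * n * m + m * m * n := by rw [hτ]; noncomm_ring
        _ = n * (m * m) + m * n * m := by rw [hb]; simp
        _ = τ * m := by rw [hτ]; noncomm_ring⟩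
  have hea : (a : R) = 1 + n := by rw [hn, add_sub_cancel]
  have heb : (b : R) = 1 + m := by rw [hm, add_sub_cancel]
  let P : Rˣ → Prop := fun s =>
    (∀ z ∈ C, (s : R) * z = z * (s : R)) ∧
      (s : R) + ((s⁻¹ : Rˣ) : R) ∈ C ∧
      (s : R) * n - n * ((s⁻¹ : Rˣ) : R) ∈ C ∧
      (s : R) * m - m * ((s⁻¹ : Rˣ) : R) ∈ C ∧
      (s : R) * (n * m) + m * n * ((s⁻¹ : Rˣ) : R) ∈ C ∧
      (s : R) * (m * n) + n * m * ((s⁻¹ : Rˣ) : R) ∈ C
  -- one step with a quadratic unit
  have step : ∀ (n m : R), n * n = 0 → m * m = 0 → n * m + m * n = τ →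
      (∀ z ∈ C, n * z = z * n) → ∀ (s : R) (si : R), (∀ z ∈ C, s * z = z * s) → s + si ∈ C →
      s * n - n * si ∈ C → s * m - m * si ∈ C → s * (n * m) + m * n * si ∈ C →
      s * (m * n) + n * m * si ∈ C →
      (∀ z ∈ C, s * (1 + n) * z = z * (s * (1 + n))) ∧
      s * (1 + n) + (1 - n) * si ∈ C ∧
      s * (1 + n) * n - n * ((1 - n) * si) ∈ C ∧
      s * (1 + n) * m - m * ((1 - n) * si) ∈ C ∧
      s * (1 + n) * (n * m) + m * n * ((1 - n) * si) ∈ C ∧
      s * (1 + n) * (m * n) + n * m * ((1 - n) * si) ∈ C := by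
    intro n m hn hm hnm hzn s si hsz h1 h2 h3 h4 h5
    have e1 : n * m * n = τ * n := by
      calc n * m * n = (n * m + m * n) * n - m * (n * n) := by noncomm_ring
        _ = τ * n := by rw [hnm, hn, mul_zero, sub_zero]
    refine ⟨fun z hz => ?_, ?_, ?_, ?_, ?_, ?_⟩
    · calc s * (1 + n) * z = s * z + s * (n * z) := by noncomm_ring
        _ = z * (s * (1 + n)) := by
          rw [hzn z hz, hsz z hz]
          calc z * s + s * (z * n) = z * s + (s * z) * n := by rw [mul_assoc]
            _ = _ := by rw [hsz z hz]; noncomm_ring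
    · rw [show s * (1 + n) + (1 - n) * si = (s + si) + (s * n - n * si) by noncomm_ring]
      exact add_mem h1 h2
    · rw [show s * (1 + n) * n - n * ((1 - n) * si) =
          (s * n - n * si) + s * (n * n) + n * n * si by noncomm_ring, hn]
      simpa using h2
    · rw [show s * (1 + n) * m - m * ((1 - n) * si) =
          (s * m - m * si) + (s * (n * m) + m * n * si) by noncomm_ring]
      exact add_mem h3 h4
    · rw [show s * (1 + n) * (n * m) + m * n * ((1 - n) * si) =
          (s * (n * m) + m * n * si) + s * (n * n) * m - m * (n * n) * si by noncomm_ring, hn]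
      simpa using h4
    · rw [show s * (1 + n) * (m * n) + n * m * ((1 - n) * si) =
          (s * (m * n) + n * m * si) + (s * (n * m * n) - n * m * n * si) by noncomm_ring, e1,
        show s * (τ * n) - τ * n * si = τ * (s * n - n * si) by
          rw [← mul_assoc, hsz τ hτC]; noncomm_ring]
      exact add_mem h5 (mul_mem hτC h2)
  have key : P s := by
    clear h2
    induction hs using Subgroup.closure_induction_right with
    | one =>
      refine ⟨fun z _ => by simp, ?_, ?_, ?_, ?_, ?_⟩ <;> simp only [Units.val_one, inv_one,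
        one_mul, mul_one, sub_self, zero_mem]
      · exact add_mem (one_mem _) (one_mem _)
      · exact hτC
      · rw [add_comm]; exact hτC
    | mul_right x y _ hy ih =>
      obtain ⟨hz, h1, h2, h3, h4, h5⟩ := ih
      rcases hy with rfl | rfl
      · have := step n m ha hb rfl (fun z hz => (mem_C.1 hz).1) _ _ hz h1 h2 h3 h4 h5
        simpa only [P, mul_inv_rev, Units.val_mul, hea, hai] using this
      · obtain ⟨k0, k1, k2, k3, k4, k5⟩ :=
          step m n hb ha (add_comm _ _) (fun z hz => (mem_C.1 hz).2) _ _ hz h1 h3 h2 h5 h4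
        exact ⟨by simpa only [Units.val_mul, heb] using k0, by
          simpa only [mul_inv_rev, Units.val_mul, heb, hbi] using
            (⟨k1, k3, k2, k5, k4⟩ : _ ∧ _ ∧ _ ∧ _ ∧ _)⟩
    | mul_inv_cancel x y _ hy ih =>
      obtain ⟨hz, h1, h2, h3, h4, h5⟩ := ih
      have flip : ∀ (p q : R) {z : R}, p * (-q) - -q * z = -(p * q - q * z) := by
        intro p q z; noncomm_ring
      rcases hy with rfl | rfl
      · obtain ⟨k0, k1, k2, k3, k4, k5⟩ := step (-n) (-m) (by simpa using ha) (by simpa using hb)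
          (by rw [hτ]; noncomm_ring) (fun z hz => by simp [(mem_C.1 hz).1]) _ _ hz h1
          (by rw [flip]; exact neg_mem h2) (by rw [flip]; exact neg_mem h3)
          (by simpa using h4) (by simpa using h5)
        rw [flip] at k2 k3
        simp only [← sub_eq_add_neg, sub_neg_eq_add, neg_mul_neg] at k0 k1 k2 k3 k4 k5
        refine ⟨by simpa only [Units.val_mul, hai] using k0, ?_⟩
        simp only [mul_inv_rev, inv_inv, Units.val_mul, hea, hai]
        exact ⟨k1, neg_mem_iff.1 k2, neg_mem_iff.1 k3, k4, k5⟩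
      · obtain ⟨k0, k1, k2, k3, k4, k5⟩ := step (-m) (-n) (by simpa using hb) (by simpa using ha)
          (by rw [hτ]; noncomm_ring) (fun z hz => by simp [(mem_C.1 hz).2]) _ _ hz h1
          (by rw [flip]; exact neg_mem h3) (by rw [flip]; exact neg_mem h2)
          (by simpa using h5) (by simpa using h4)
        rw [flip] at k2 k3
        simp only [← sub_eq_add_neg, sub_neg_eq_add, neg_mul_neg] at k0 k1 k2 k3 k4 k5
        refine ⟨by simpa only [Units.val_mul, hbi] using k0, ?_⟩
        simp only [mul_inv_rev, inv_inv, Units.val_mul, heb, hbi]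
        exact ⟨k1, neg_mem_iff.1 k3, neg_mem_iff.1 k2, k5, k4⟩
  obtain ⟨-, h1, -⟩ := key
  rw [inv_eq_of_mul_eq_one_right h2] at h1
  obtain ⟨c1, c2⟩ := mem_C.1 h1
  have hd : ∀ p : R, p * ((s : R) + s) = ((s : R) + s) * p → p * (s : R) = (s : R) * p := by
    intro p hp
    refine sub_eq_zero.1 (two_cancel hN hR ?_)
    rw [mul_add, add_mul] at hp
    calc p * (s : R) - (s : R) * p + (p * (s : R) - (s : R) * p)
        = (p * (s : R) + p * (s : R)) - ((s : R) * p + (s : R) * p) := by abel
      _ = 0 := by rw [hp, sub_self]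
  constructor
  · refine Units.ext ?_
    rw [Units.val_mul, Units.val_mul, hea, mul_add, add_mul, mul_one, one_mul, hd n c1]
  · refine Units.ext ?_
    rw [Units.val_mul, Units.val_mul, heb, mul_add, add_mul, mul_one, one_mul, hd m c2]

end CfsgLib.LocalEven.SwapInjective
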