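import Cfsg.Agent.Lib.LocalEven.SwapInjective.Orbit

/-!
# Closed sets of cosets

A set of cosets is closed if it contains the fixed point of every involution interchanging two of
its points.  A proper closed set with two points forces `SwapInj`.
-/

set_option autoImplicit false

namespace CfsgLib.LocalEven.SwapInjective

open Subgroup MulAction CfsgLib.Involution.Dihedral CfsgLib.Involution
  CfsgLib.LocalEven.BenderTransitive

universe u

variable {G : Type u} [Group G] {H : Subgroup G}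

/-- Closed under taking fixed points of swaps. -/
def Closed (S : Set (G ⧸ H)) : Prop :=
  ∀ x ∈ S, ∀ y ∈ S, x ≠ y → ∀ z : G, orderOf z = 2 → z • x = y → ∀ e : G ⧸ H, z • e = e → e ∈ S

/-- The closure of two cosets. -/
def line (x y : G ⧸ H) : Set (G ⧸ H) := ⋂₀ {S | Closed S ∧ x ∈ S ∧ y ∈ S}

theorem closed_line (x y : G ⧸ H) : Closed (line x y) :=
  fun a ha b hb hab z hz hza e he S hS => hS.1 a (ha S hS) b (hb S hS) hab z hz hza e he

theorem left_mem_line (x y : G ⧸ H) : x ∈ line x y := fun _ hS => hS.2.1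

theorem right_mem_line (x y : G ⧸ H) : y ∈ line x y := fun _ hS => hS.2.2

theorem line_subset {x y : G ⧸ H} {S : Set (G ⧸ H)} (hS : Closed S) (hx : x ∈ S) (hy : y ∈ S) :
    line x y ⊆ S := Set.sInter_subset_of_mem (show S ∈ {S | Closed S ∧ x ∈ S ∧ y ∈ S} from ⟨hS, hx, hy⟩)

theorem line_comm (x y : G ⧸ H) : line x y = line y x :=
  (line_subset (closed_line y x) (right_mem_line y x) (left_mem_line y x)).antisymm
    (line_subset (closed_line x y) (right_mem_line x y) (left_mem_line x y))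

theorem Closed.image {S : Set (G ⧸ H)} (hS : Closed S) (g : G) :
    Closed ((fun p => g • p) '' S) := by
  rintro _ ⟨x, hx, rfl⟩ _ ⟨y, hy, rfl⟩ hne z hz hzx e he
  refine ⟨g⁻¹ • e, hS x hx y hy (fun h => hne (h ▸ rfl)) (g⁻¹ * z * g⁻¹⁻¹)
    ((orderOf_conj g⁻¹ z).trans hz) ?_ _ ?_, smul_inv_smul g e⟩
  · rw [inv_inv, mul_smul, mul_smul, hzx, inv_smul_smul]
  · rw [smul_smul, inv_mul_cancel_right, mul_smul, he]

theorem line_smul (g : G) (x y : G ⧸ H) :
    (fun p => g • p) '' line x y = line (g • x) (g • y) := by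
  refine Set.Subset.antisymm ?_ (line_subset ((closed_line x y).image g) ⟨x, left_mem_line x y, rfl⟩
    ⟨y, right_mem_line x y, rfl⟩)
  rintro _ ⟨p, hp, rfl⟩
  have h := line_subset ((closed_line (g • x) (g • y)).image g⁻¹)
    (x := x) (y := y) ⟨g • x, left_mem_line _ _, inv_smul_smul g x⟩
    ⟨g • y, right_mem_line _ _, inv_smul_smul g y⟩ hp
  obtain ⟨q, hq, rfl⟩ := h
  change g • g⁻¹ • q ∈ _
  rwa [smul_inv_smul]

variable [Finite G] (hH : Cfsg.IsStronglyEmbedded H)
  (hcomm : ∃ x y : G, orderOf x = 2 ∧ orderOf y = 2 ∧ x ≠ y ∧ Commute x y)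

include hH hcomm

theorem exists_map_pair {a b x y : G ⧸ H} (hab : a ≠ b) (hxy : x ≠ y) :
    ∃ g : G, g • a = x ∧ g • b = y := by
  obtain ⟨g₁, hg₁⟩ : ∃ g : G, g • a = x := MulAction.exists_smul_eq G a x
  obtain ⟨g₂, h₁, h₂⟩ := pairTransitive hH hcomm x (g₁ • b) y
    (fun h => hab (smul_left_cancel g₁ (hg₁.trans h.symm))) hxy.symm
  exact ⟨g₂ * g₁, by rw [mul_smul, hg₁, h₁], by rw [mul_smul, h₂]⟩

theorem line_eq {x y p q : G ⧸ H} (hxy : x ≠ y) (hp : p ∈ line x y) (hq : q ∈ line x y)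
    (hpq : p ≠ q) : line p q = line x y := by
  refine Set.eq_of_subset_of_ncard_le (line_subset (closed_line x y) hp hq) (le_of_eq ?_)
    (Set.toFinite _)
  obtain ⟨g, hgx, hgy⟩ := exists_map_pair hH hcomm hxy hpq
  rw [← hgx, ← hgy, ← line_smul, Set.ncard_image_of_injective _ (MulAction.injective g)]

theorem line_ne_univ {S : Set (G ⧸ H)} (hS : Closed S) (hne : S ≠ Set.univ) {a b : G ⧸ H}
    (haS : a ∈ S) (hbS : b ∈ S) (hab : a ≠ b) {x y : G ⧸ H} (hxy : x ≠ y) :
    line x y ≠ Set.univ := by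
  intro h
  obtain ⟨g, hgx, hgy⟩ := exists_map_pair hH hcomm hab hxy
  rw [← hgx, ← hgy, ← line_smul] at h
  apply hne
  rw [Set.eq_univ_iff_forall]
  intro p
  obtain ⟨q, hq, e⟩ := (Set.eq_univ_iff_forall.1 h (g • p))
  exact (smul_left_cancel g e) ▸ line_subset hS haS hbS hq

theorem line_involution {z : G} {d x : G ⧸ H} (hz : orderOf z = 2) (hzd : z • d = d)
    (hx : x ≠ d) : line d (z • x) = line d x := by
  have hne : x ≠ z • x := fun h => hx (SE.fixed_unique hH hz h.symm hzd)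
  have hd : d ∈ line x (z • x) :=
    closed_line x (z • x) x (left_mem_line _ _) _ (right_mem_line _ _) hne z hz rfl d hzd
  have hne' : d ≠ z • x := fun h => hx (smul_left_cancel z (h.symm.trans hzd.symm))
  rw [line_eq hH hcomm hne hd (right_mem_line _ _) hne',
    line_eq hH hcomm hne hd (left_mem_line _ _) (Ne.symm hx)]

/-- A proper closed set leads to a contradiction. -/
theorem false_of_closed (hcore : H.normalCore = ⊥) (hIH : SwapInjBelow.{u} (Nat.card G))
    {S : Set (G ⧸ H)} (hS : Closed S) (hSne : S ≠ Set.univ) {s₁ s₂ : G ⧸ H} (hs₁ : s₁ ∈ S)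
    (hs₂ : s₂ ∈ S) (hs : s₁ ≠ s₂) {u u' : G} (hu : orderOf u = 2) (hu' : orderOf u' = 2)
    (hne : u ≠ u') {c a : G ⧸ H} (huc : u • c = c) (hu'c : u' • c = c) (hac : a ≠ c)
    (hag : u • a = u' • a) : False := by
  have hfaith : ∀ k : G, (∀ p : G ⧸ H, k • p = p) → k = 1 := by
    intro k hk
    rw [← Subgroup.mem_bot, ← hcore]
    intro g
    have := SE.fixes_mk_iff.1 (hk ((g⁻¹ : G) : G ⧸ H))
    rwa [inv_inv] at this
  set ℓ := line c a with hℓ
  have hcℓ : c ∈ ℓ := left_mem_line c a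
  have haℓ : a ∈ ℓ := right_mem_line c a
  have hℓne : ℓ ≠ Set.univ := line_ne_univ hH hcomm hS hSne hs₁ hs₂ hs (Ne.symm hac)
  let Γ : Subgroup G :=
    { carrier := {g | ∀ p, g • p ∈ ℓ ↔ p ∈ ℓ}
      one_mem' := fun p => by rw [one_smul]
      mul_mem' := fun {g g'} hg hg' p => by rw [mul_smul, hg, hg']
      inv_mem' := fun {g} hg p => by conv_rhs => rw [← smul_inv_smul g p, hg] }
  let U : Subgroup G :=
    { carrier := {g | ∀ p ∈ ℓ, g • p = p}
      one_mem' := fun p _ => one_smul G p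
      mul_mem' := fun {g g'} hg hg' p hp => by rw [mul_smul, hg' p hp, hg p hp]
      inv_mem' := fun {g} hg p hp => inv_smul_eq_iff.2 (hg p hp).symm }
  have hUN : Γ ≤ normalizer (U : Set G) := fun g hg =>
    Coprime.mem_normalizer_of_conj_map_le fun k hk p hp => by
      rw [mul_smul, mul_smul, hk _ ((inv_mem hg : g⁻¹ ∈ Γ) p |>.2 hp), smul_inv_smul]
  -- involutions with fixed point on `ℓ` stabilise `ℓ`
  have hinvΓ : ∀ {z : G} {d : G ⧸ H}, orderOf z = 2 → z • d = d → d ∈ ℓ → z ∈ Γ := by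
    intro z d hz hzd hd p
    have key : ∀ p ∈ ℓ, z • p ∈ ℓ := by
      intro p hp
      rcases eq_or_ne p d with rfl | hpd
      · rwa [hzd]
      have h1 : line d p = ℓ := line_eq hH hcomm (Ne.symm hac) hd hp (Ne.symm hpd)
      rw [← h1, ← line_involution hH hcomm hz hzd hpd]
      exact right_mem_line _ _
    refine ⟨fun h => ?_, key p⟩
    have := key _ h
    rwa [smul_smul, mul_self hz, one_smul] at this
  let L : (d : G ⧸ H) → d ∈ ℓ → Subgroup G := fun d hd =>
    { carrier := {k | k ∈ U ∧ ∀ p, p ≠ d → line d (k • p) = line d p}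
      one_mem' := ⟨one_mem U, fun p _ => by rw [one_smul]⟩
      mul_mem' := fun {k k'} hk hk' => ⟨mul_mem hk.1 hk'.1, fun p hp => by
        rw [mul_smul, hk.2 _ (fun h => hp (by
          rw [← inv_smul_smul k' p, h]
          exact (U.inv_mem hk'.1) d hd)), hk'.2 p hp]⟩
      inv_mem' := fun {k} hk => ⟨inv_mem hk.1, fun p hp => by
        conv_rhs => rw [← smul_inv_smul k p, hk.2 _ (fun h => hp (by
          rw [← smul_inv_smul k p, h]; exact hk.1 d hd))]⟩ }
  have hmeet : ∀ (x y : G ⧸ H) (hx : x ∈ ℓ) (hy : y ∈ ℓ), x ≠ y →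
      ∀ k, k ∈ L x hx → k ∈ L y hy → k = 1 := by
    intro x y hx hy hxy k hkx hky
    refine hfaith k fun p => ?_
    by_contra hkp
    have hp : p ∉ ℓ := fun h => hkp (hkx.1 p h)
    have hpx : p ≠ x := fun h => hp (h ▸ hx)
    have hpy : p ≠ y := fun h => hp (h ▸ hy)
    have h1 : line (k • p) p = line x p :=
      line_eq hH hcomm (Ne.symm hpx) (hkx.2 p hpx ▸ right_mem_line x (k • p))
        (right_mem_line _ _) hkp
    have h2 : line (k • p) p = line y p :=
      line_eq hH hcomm (Ne.symm hpy) (hky.2 p hpy ▸ right_mem_line y (k • p))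
        (right_mem_line _ _) hkp
    have h3 : y ∈ line x p := by rw [← h1, h2]; exact left_mem_line _ _
    have h4 : line x y = line x p := line_eq hH hcomm (Ne.symm hpx) (left_mem_line _ _) h3 hxy
    have h5 : line x y = ℓ := line_eq hH hcomm (Ne.symm hac) hx hy hxy
    exact hp (h5 ▸ h4 ▸ right_mem_line x p)
  have hcomL : ∀ (d : G ⧸ H) (hd : d ∈ ℓ) (z : G), orderOf z = 2 → z • d = d → ∀ k ∈ U,
      k * z * k⁻¹ * z ∈ L d hd := by
    intro d hd z hz hzd k hk
    refine ⟨?_, fun p hp => ?_⟩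
    · have h1 := conj_mem_of_mem_normalizer (hUN (hinvΓ hz hzd hd)) (U.inv_mem hk)
      rw [inv_eq hz] at h1
      rw [show k * z * k⁻¹ * z = k * (z * k⁻¹ * z) by group]
      exact mul_mem hk h1
    · have hz' : orderOf (k * z * k⁻¹) = 2 := (orderOf_conj k z).trans hz
      have hzd' : (k * z * k⁻¹) • d = d := by
        rw [mul_smul, mul_smul, (U.inv_mem hk) d hd, hzd, hk d hd]
      have hzp : z • p ≠ d := fun h => hp (smul_left_cancel z (h.trans hzd.symm))
      rw [mul_smul (k * z * k⁻¹) z, line_involution hH hcomm hz' hzd' hzp,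
        line_involution hH hcomm hz hzd hp]
  -- the map `U_x → U_d`
  have key : ∀ (d x : G ⧸ H) (hd : d ∈ ℓ) (hx : x ∈ ℓ), x ≠ d → ∀ z : G, orderOf z = 2 →
      z • d = d →
      ∃ f : L x hx → L d hd, Function.Injective f ∧
        ∀ α, z * (f α : G) * z⁻¹ = (f α : G)⁻¹ := by
    intro d x hd hx hxd z hz hzd
    refine ⟨fun α => ⟨_, hcomL d hd z hz hzd (α : G) α.2.1⟩, ?_, ?_⟩
    · intro α β h
      have h1 : (α : G) * z * (α : G)⁻¹ * z = (β : G) * z * (β : G)⁻¹ * z := congrArg Subtype.val h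
      have h1' := mul_right_cancel h1
      set k := (β : G)⁻¹ * α with hk
      have hkz : z * k * z⁻¹ = k := by
        rw [mul_inv_eq_iff_eq_mul, hk]
        calc z * ((β : G)⁻¹ * α) = (β : G)⁻¹ * ((β : G) * z * (β : G)⁻¹) * α := by group
          _ = (β : G)⁻¹ * ((α : G) * z * (α : G)⁻¹) * α := by rw [h1']
          _ = (β : G)⁻¹ * (α : G) * z := by group
      have hkx : k ∈ L x hx := mul_mem (inv_mem β.2) α.2
      have hzx : z • x ∈ ℓ := (hinvΓ hz hzd hd x).2 hx
      have hne : x ≠ z • x := fun h => hxd (SE.fixed_unique hH hz h.symm hzd)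
      have hkzx : k ∈ L (z • x) hzx := by
        refine ⟨hkx.1, fun p hp => ?_⟩
        have hp' : z⁻¹ • p ≠ x := fun h => hp (by rw [← h, smul_inv_smul])
        have e := congrArg (fun s => (fun q => z • q) '' s) (hkx.2 _ hp')
        simp only [line_smul] at e
        rwa [smul_inv_smul, ← mul_smul k, ← mul_smul z, show z * (k * z⁻¹) = z * k * z⁻¹ by group,
          hkz] at e
      have hk1 := hmeet x (z • x) hx hzx hne k hkx hkzx
      exact Subtype.ext (inv_mul_eq_one.1 hk1).symm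
    · intro α
      change z * ((α : G) * z * (α : G)⁻¹ * z) * z⁻¹ = ((α : G) * z * (α : G)⁻¹ * z)⁻¹
      simp only [mul_inv_rev, inv_inv, inv_eq hz, mul_assoc, mul_self hz, mul_one]
  -- commuting involutions at `c`
  obtain ⟨w, hw, hwu, hwc'⟩ := exists_commuting hH hcomm hu
  have hwc : w • c = c := SE.commute_fixes hH hu huc hwc'
  have hLbot : ∀ k ∈ L c hcℓ, k = 1 := by
    intro k hk
    obtain ⟨f, hf, hfi⟩ := key c a hcℓ haℓ hac u hu huc
    obtain ⟨f', hf', hfi'⟩ := key c a hcℓ haℓ hac w hw hwc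
    have hz : orderOf (w * u) = 2 := by
      refine orderOf_eq_two ?_ fun h => hwu ((mul_eq_one_iff_eq_inv.1 h).trans (inv_eq hu))
      rw [hwc'.symm.mul_mul_mul_comm, mul_self hw, mul_self hu, one_mul]
    obtain ⟨f'', hf'', hfi''⟩ := key c a hcℓ haℓ hac (w * u) hz (by rw [mul_smul, huc, hwc])
    obtain ⟨v, hv, hva⟩ := SE.exists_involution_fixing hH a
    obtain ⟨g, hg, -⟩ := key a c haℓ hcℓ (Ne.symm hac) v hv hva
    have hcard : Nat.card (L a haℓ) = Nat.card (L c hcℓ) :=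
      le_antisymm (Nat.card_le_card_of_injective f hf) (Nat.card_le_card_of_injective g hg)
    have inverted : ∀ {z : G} {f : L a haℓ → L c hcℓ}, Function.Injective f →
        (∀ α, z * (f α : G) * z⁻¹ = (f α : G)⁻¹) → z * k * z⁻¹ = k⁻¹ := by
      intro z f hf hfi
      obtain ⟨α, hα⟩ := ((Nat.bijective_iff_injective_and_card f).2 ⟨hf, hcard⟩).2 ⟨k, hk⟩
      have e := hfi α
      rwa [hα] at e
    have e1 := inverted hf hfi
    have e2 := inverted hf' hfi'
    have e3 := inverted hf'' hfi''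
    have e4 : w * u * k * (w * u)⁻¹ = k := by
      rw [show w * u * k * (w * u)⁻¹ = w * (u * k * u⁻¹) * w⁻¹ by group, e1,
        show w * k⁻¹ * w⁻¹ = (w * k * w⁻¹)⁻¹ by group, e2, inv_inv]
    rw [e4] at e3
    by_contra hk1
    refine hac (SE.fixed_unique hH (orderOf_eq_two ?_ hk1) (hk.1 a haℓ) (hk.1 c hcℓ))
    conv_lhs => arg 2; rw [e3]
    exact mul_inv_cancel k
  -- the induction inside `Γ`
  have huΓ : u ∈ Γ := hinvΓ hu huc hcℓ
  have hmove : ∀ {p : G ⧸ H}, p ∈ ℓ → p ≠ c → ∃ γ ∈ Γ, γ • c = p := by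
    intro p hp hpc
    obtain ⟨s, hs, hsp⟩ := exists_swap hH (Ne.symm hpc)
    obtain ⟨e, he⟩ := SE.exists_fixed hH hs
    exact ⟨s, hinvΓ hs he (closed_line c a c hcℓ p hp (Ne.symm hpc) s hs hsp e he), hsp⟩
  have hΓtop : Γ ≠ ⊤ := by
    intro h
    apply hℓne
    rw [Set.eq_univ_iff_forall]
    intro p
    obtain ⟨g, hg⟩ : ∃ g : G, g • c = p := MulAction.exists_smul_eq G c p
    exact hg ▸ ((h ▸ mem_top g : g ∈ Γ) c).2 hcℓ
  obtain ⟨γ, hγ, hγc⟩ := hmove haℓ hac
  have hjU : u' * u ∈ U := by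
    intro p hp
    have h : ∀ {δ : G}, δ ∈ Γ → (u' * u) • δ • c = δ • c := fun hδ =>
      orbit_core hH hIH hΓtop hu huΓ huc hw (hinvΓ hw hwc hcℓ) hwc'.symm hwu.symm hu'
        (hinvΓ hu' hu'c hcℓ) hu'c hγ (hγc.symm ▸ hac) (hγc.symm ▸ hag) hδ
    rcases eq_or_ne p c with rfl | hpc
    · rw [mul_smul, huc, hu'c]
    · obtain ⟨δ, hδ, rfl⟩ := hmove hp hpc
      exact h hδ
  have h1 := hLbot _ (hcomL c hcℓ u hu huc _ hjU)
  set j := u' * u with hj
  have h2 : j * u * j⁻¹ = u⁻¹ := mul_eq_one_iff_eq_inv.1 h1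
  rw [inv_eq hu, mul_inv_eq_iff_eq_mul] at h2
  have hu'j : u' = j * u := by rw [hj, mul_assoc, mul_self hu, mul_one]
  have hcom : u' * u = u * u' := by
    calc u' * u = j := rfl
      _ = u * (u * j) := by rw [← mul_assoc, mul_self hu, one_mul]
      _ = u * (j * u) := by rw [h2]
      _ = u * u' := by rw [← hu'j]
  have hj2 : orderOf j = 2 := by
    refine orderOf_eq_two ?_ fun h => hne ((mul_eq_one_iff_eq_inv.1 h).trans (inv_eq hu)).symm
    rw [hj]
    nth_rw 2 [hcom]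
    rw [mul_assoc, ← mul_assoc u, mul_self hu, one_mul, mul_self hu']
  exact hac (SE.fixed_unique hH hj2 (hjU a haℓ) (hjU c hcℓ))

end CfsgLib.LocalEven.SwapInjective
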