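import Cfsg.Agent.Lib.LocalEven.BenderTransitive.Main
import Cfsg.Agent.Lib.Involution.ZStar.Main
import Cfsg.Agent.Lib.OddOrder.Final.Main

/-!
# Subgroups acting on an orbit of cosets of a strongly embedded subgroup
-/

set_option autoImplicit false

namespace CfsgLib.LocalEven.SwapInjective

open Subgroup MulAction CfsgLib.Involution.Dihedral CfsgLib.Involution
  CfsgLib.LocalEven.BenderTransitive
open scoped commutatorElement

universe u

/-- Two involutions fixing the same coset agree at another coset only if they agree modulo the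
normal core. -/
def SwapInj {G : Type u} [Group G] (H : Subgroup G) : Prop :=
  ∀ u u' : G, orderOf u = 2 → orderOf u' = 2 → ∀ c a : G ⧸ H, u • c = c → u' • c = c → a ≠ c →
    u • a = u' • a → u' * u ∈ H.normalCore

/-- `SwapInj` for all groups of smaller order with two commuting involutions. -/
def SwapInjBelow (n : ℕ) : Prop :=
  ∀ (G : Type u) [Group G] [Finite G] (H : Subgroup G), Nat.card G < n →
    Cfsg.IsStronglyEmbedded H →
    (∃ x y : G, orderOf x = 2 ∧ orderOf y = 2 ∧ x ≠ y ∧ Commute x y) → SwapInj H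

variable {G : Type u} [Group G] {H : Subgroup G}

/-- A normalised subgroup fixing `c` fixes the orbit of `c`. -/
theorem fix_orbit {Γ N : Subgroup G} (hN : Γ ≤ normalizer (N : Set G)) {c : G ⧸ H}
    (hc : N ≤ stabilizer G c) {γ : G} (hγ : γ ∈ Γ) {n : G} (hn : n ∈ N) :
    n • γ • c = γ • c :=
  smul_of_normalizes (hN hγ) hc hn

theorem conj_normalizer_of_commute {x u : G} (h : Commute x u) :
    x ∈ normalizer ((zpowers u : Subgroup G) : Set G) :=
  centralizer_le_normalizer _ (mem_centralizer_iff.2 fun y hy => by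
    obtain ⟨k, rfl⟩ := mem_zpowers_iff.1 hy
    exact (h.zpow_right k).eq.symm)

variable [Finite G] (hH : Cfsg.IsStronglyEmbedded H)

include hH

/-- An odd subgroup normalised by two commuting involutions fixes their common point. -/
theorem le_stabilizer_of_four {N : Subgroup G} (hN : Odd (Nat.card N)) {u w : G} {c : G ⧸ H}
    (hu : orderOf u = 2) (huc : u • c = c) (hw : orderOf w = 2) (huw : Commute u w) (hne : u ≠ w)
    (huN : u ∈ normalizer (N : Set G)) (hwN : w ∈ normalizer (N : Set G)) :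
    N ≤ stabilizer G c := by
  refine le_of_centralizer_four hu hw hne huw hN huN hwN fun s hs => inf_le_right.trans ?_
  have hwc : w • c = c := SE.commute_fixes hH hu huc huw.symm
  rcases hs with rfl | rfl | rfl
  · exact centralizer_le_stabilizer hH hu huc
  · exact centralizer_le_stabilizer hH hw hwc
  · refine centralizer_le_stabilizer hH ?_ (by rw [mul_smul, hwc, huc])
    refine orderOf_eq_two ?_ fun h => hne ((mul_eq_one_iff_eq_inv.1 h).trans (inv_eq hw))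
    rw [huw.symm.mul_mul_mul_comm, mul_self hu, mul_self hw, one_mul]

variable {Γ : Subgroup G} {c : G ⧸ H} {u : G}

/-- A subgroup with an involution fixing `c` which moves `c` has a strongly embedded point
stabiliser. -/
theorem orbit_se (hu : orderOf u = 2) (huΓ : u ∈ Γ) (huc : u • c = c) {k : G} (hk : k ∈ Γ)
    (hkc : k • c ≠ c) : Cfsg.IsStronglyEmbedded ((stabilizer G c).subgroupOf Γ) := by
  refine ⟨fun h => ?_, ?_, ?_⟩
  · exact hkc (mem_stabilizer_iff.1 (mem_subgroupOf.1 (h ▸ mem_top (⟨k, hk⟩ : Γ))))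
  · rw [even_iff_two_dvd, ← hu, ← orderOf_mk u huΓ]
    exact Subgroup.orderOf_dvd_natCard _ (mem_subgroupOf.2 (mem_stabilizer_iff.2 huc))
  · intro g hg
    have hne : c ≠ (g : G) • c := fun h => hg (mem_subgroupOf.2 (mem_stabilizer_iff.2 h.symm))
    rw [← Coprime.card_map_subtype]
    refine (odd_stab2 hH hne).of_dvd_nat (Subgroup.card_dvd_of_le ?_)
    rintro _ ⟨x, ⟨hx, y, hy, rfl⟩, rfl⟩
    refine mem_stab2.2 ⟨hx, ?_⟩
    change ((g : G) * (y : G) * (g : G)⁻¹) • (g : G) • c = (g : G) • c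
    rw [smul_smul, inv_mul_cancel_right, mul_smul, mem_stabilizer_iff.1 (mem_subgroupOf.1 hy)]

/-- The fixed points of the involutions of such a subgroup form the orbit of `c`. -/
theorem fixed_mem_orbit (hu : orderOf u = 2) (huΓ : u ∈ Γ) (huc : u • c = c) {k : G} (hk : k ∈ Γ)
    (hkc : k • c ≠ c) {v : G} (hv : orderOf v = 2) (hvΓ : v ∈ Γ) {e : G ⧸ H} (hve : v • e = e) :
    ∃ γ ∈ Γ, γ • c = e := by
  obtain ⟨γ, hγ⟩ := isConj_iff.1 (SE.all_conj (orbit_se hH hu huΓ huc hk hkc)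
    (a := ⟨u, huΓ⟩) (b := ⟨v, hvΓ⟩) ((orderOf_mk u huΓ).trans hu) ((orderOf_mk v hvΓ).trans hv))
  refine ⟨γ, γ.2, SE.fixed_unique hH hv ?_ hve⟩
  have h : (γ : G) * u * (γ : G)⁻¹ = v := congrArg Subtype.val hγ
  rw [← h, smul_smul, inv_mul_cancel_right, mul_smul, huc]

omit hH in
theorem exists_commuting_subtype {w : G} (hu : orderOf u = 2) (huΓ : u ∈ Γ) (hw : orderOf w = 2)
    (hwΓ : w ∈ Γ) (huw : Commute u w) (hne : u ≠ w) :
    ∃ x y : Γ, orderOf x = 2 ∧ orderOf y = 2 ∧ x ≠ y ∧ Commute x y :=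
  ⟨⟨u, huΓ⟩, ⟨w, hwΓ⟩, (orderOf_mk u huΓ).trans hu, (orderOf_mk w hwΓ).trans hw,
    fun h => hne (congrArg Subtype.val h), Subtype.ext huw.eq⟩

/-- Double transitivity on the orbit. -/
theorem orbit_pair {w : G} (hu : orderOf u = 2) (huΓ : u ∈ Γ) (huc : u • c = c)
    (hw : orderOf w = 2) (hwΓ : w ∈ Γ) (huw : Commute u w) (hne : u ≠ w) {γ₁ γ₂ : G}
    (h₁ : γ₁ ∈ Γ) (h₂ : γ₂ ∈ Γ) (hm₁ : γ₁ • c ≠ c) (hm₂ : γ₂ • c ≠ c) :
    ∃ g ∈ Γ, g • c = c ∧ g • γ₁ • c = γ₂ • c := by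
  obtain ⟨g, hg, hmem⟩ := exists_smul_mem (orbit_se hH hu huΓ huc h₁ hm₁)
    (exists_commuting_subtype hu huΓ hw hwΓ huw hne) ⟨γ₁, h₁⟩ ⟨γ₂, h₂⟩
    (fun h => hm₁ (mem_subgroupOf.1 h)) (fun h => hm₂ (mem_subgroupOf.1 h))
  refine ⟨g, g.2, mem_subgroupOf.1 hg, ?_⟩
  have h : (γ₂⁻¹ * ((g : G) * γ₁)) • c = c := mem_subgroupOf.1 hmem
  rwa [mul_smul, inv_smul_eq_iff, mul_smul] at h

/-- The inductive hypothesis, applied inside a proper subgroup. -/
theorem orbit_core (hIH : SwapInjBelow.{u} (Nat.card G)) (hΓ : Γ ≠ ⊤) {w : G}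
    (hu : orderOf u = 2) (huΓ : u ∈ Γ) (huc : u • c = c) (hw : orderOf w = 2) (hwΓ : w ∈ Γ)
    (huw : Commute u w) (hne : u ≠ w) {u' : G} (hu' : orderOf u' = 2) (hu'Γ : u' ∈ Γ)
    (hu'c : u' • c = c) {γ : G} (hγ : γ ∈ Γ) (hm : γ • c ≠ c) (hag : u • γ • c = u' • γ • c)
    {δ : G} (hδ : δ ∈ Γ) : (u' * u) • δ • c = δ • c := by
  set Γc := (stabilizer G c).subgroupOf Γ with hΓc
  have hcard : Nat.card Γ < Nat.card G :=
    lt_of_le_of_ne Γ.card_le_card_group fun e => hΓ (Subgroup.eq_top_of_card_eq _ e)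
  have hfix : ∀ {x : G} (hx : x ∈ Γ), x • c = c →
      (⟨x, hx⟩ : Γ) • ((1 : Γ) : Γ ⧸ Γc) = ((1 : Γ) : Γ ⧸ Γc) := by
    intro x hx h
    rw [SE.fixes_mk_iff, inv_one, one_mul, mul_one]
    exact mem_subgroupOf.2 h
  have h := hIH Γ Γc hcard (orbit_se hH hu huΓ huc hγ hm)
    (exists_commuting_subtype hu huΓ hw hwΓ huw hne) ⟨u, huΓ⟩ ⟨u', hu'Γ⟩
    ((orderOf_mk u huΓ).trans hu) ((orderOf_mk u' hu'Γ).trans hu') ((1 : Γ) : Γ ⧸ Γc)
    ((⟨γ, hγ⟩ : Γ) : Γ ⧸ Γc) (hfix huΓ huc) (hfix hu'Γ hu'c)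
    (fun e => hm (by
      have h1 := QuotientGroup.eq.1 e.symm
      rw [inv_one, one_mul] at h1
      exact mem_subgroupOf.1 h1))
    (by
      rw [MulAction.Quotient.smul_mk, MulAction.Quotient.smul_mk, QuotientGroup.eq]
      refine mem_subgroupOf.2 (mem_stabilizer_iff.2 ?_)
      change ((u * γ)⁻¹ * (u' * γ)) • c = c
      rw [mul_smul, mul_smul u', ← hag, ← mul_smul u γ, inv_smul_smul])
  have h1 : (δ⁻¹ * (u' * u) * δ⁻¹⁻¹) • c = c := mem_subgroupOf.1 (h (⟨δ, hδ⟩ : Γ)⁻¹)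
  rwa [inv_inv, mul_smul, mul_smul, inv_smul_eq_iff] at h1

/-- A subgroup transitive by centralisers of `u` on the orbit of `c`, with an element fixing `a`
and `u • a` but not `c`, has an involution commuting with `u` other than `u`. -/
theorem exists_commuting_of_moves (hu : orderOf u = 2) (huΓ : u ∈ Γ) (huc : u • c = c)
    (htr : ∀ e f : G ⧸ H, (∃ γ ∈ Γ, γ • c = e) → (∃ γ ∈ Γ, γ • c = f) → e ≠ c → f ≠ c →
      ∃ g ∈ Γ, Commute g u ∧ g • e = f)
    {a : G ⧸ H} (haO : ∃ γ ∈ Γ, γ • c = a) {k : G} (hkΓ : k ∈ Γ) (hkc : k • c ≠ c)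
    (hka : k • a = a) (hkb : k • u • a = u • a) :
    ∃ w ∈ Γ, orderOf w = 2 ∧ Commute u w ∧ u ≠ w := by
  classical
  by_contra hno
  push Not at hno
  have hiso : Cfsg.IsIsolatedInvolution (⟨u, huΓ⟩ : Γ) := by
    refine ⟨(orderOf_mk u huΓ).trans hu, fun g hg => Subtype.ext ?_⟩
    set y : Γ := g * ⟨u, huΓ⟩ * g⁻¹ with hy
    have hy2 : orderOf (y : G) = 2 := (orderOf_conj (g : G) u).trans hu
    exact (hno (y : G) y.2 hy2 (hg.map Γ.subtype)).symm
  set O := (Cfsg.oddCore Γ).map Γ.subtype with hOdef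
  have hOodd : Odd (Nat.card O) := by
    rw [hOdef, Coprime.card_map_subtype]; exact ZStar.odd_card_oddCore
  have hON : Γ ≤ normalizer (O : Set G) := by
    haveI : (Cfsg.oddCore Γ).Normal := ZStar.oddCore_normal
    intro γ hγ
    refine Coprime.mem_normalizer_of_conj_map_le ?_
    rintro _ ⟨y, hy, rfl⟩
    exact ⟨(⟨γ, hγ⟩ : Γ) * y * (⟨γ, hγ⟩ : Γ)⁻¹, Normal.conj_mem inferInstance y hy _, rfl⟩
  obtain ⟨K, hK0, hKs⟩ : ∃ K : ℕ → Subgroup G, K 0 = O ∧ ∀ n, K (n + 1) = ⁅K n, K n⁆ :=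
    ⟨fun n => Nat.rec O (fun _ B => (⁅B, B⁆ : Subgroup G)) n, rfl, fun _ => rfl⟩
  have hKodd : ∀ n, K n ≤ O := by
    intro n; induction n with
    | zero => exact hK0.le
    | succ n ih =>
      rw [hKs]
      exact (Subgroup.commutator_mono ih ih).trans (O.commutator_le_self)
  have hKN : ∀ n : ℕ, Γ ≤ normalizer ((K n : Set G)) := by
    intro n; induction n with
    | zero => rw [hK0]; exact hON
    | succ n ih =>
      intro γ hγ
      rw [hKs]
      refine mem_normalizer_iff_map_conj_eq.2 ?_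
      rw [Subgroup.map_commutator, mem_normalizer_iff_map_conj_eq.1 (ih hγ)]
  have hKbot : ∃ n, K n ≤ stabilizer G c := by
    obtain ⟨n, hn⟩ := (Group.isSolvable_def O).1 (CfsgLib.OddOrder.Final.oddSolvable O hOodd)
    refine ⟨n, le_trans (le_of_eq ?_) bot_le⟩
    have : ∀ m, K m = (derivedSeries O m).map O.subtype := by
      intro m; induction m with
      | zero => rw [derivedSeries_zero, ← MonoidHom.range_eq_map, range_subtype, hK0]
      | succ m ih => rw [derivedSeries_succ, Subgroup.map_commutator, ← ih, hKs]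
    rw [this, hn, Subgroup.map_bot]
  obtain ⟨n, hn, hn'⟩ : ∃ n, ¬ K n ≤ stabilizer G c ∧ K (n + 1) ≤ stabilizer G c := by
    have h0 : ¬ K 0 ≤ stabilizer G c := by
      intro h
      rw [hK0] at h
      refine hkc (SE.fixed_unique hH ((orderOf_conj k u).trans hu)
        (by rw [smul_smul, inv_mul_cancel_right, mul_smul, huc]) ?_)
      have h1 : u * k * u⁻¹ * k⁻¹ ∈ O :=
        ⟨_, ZStar.comm_mem_oddCore hiso ⟨k, hkΓ⟩, rfl⟩
      have h2 : k * u * k⁻¹ = u * (u * k * u⁻¹ * k⁻¹) := by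
        rw [inv_eq hu, ← mul_assoc, ← mul_assoc, ← mul_assoc, mul_self hu, one_mul]
      rw [h2, mul_smul, mem_stabilizer_iff.1 (h h1), huc]
    by_contra hcon
    push Not at hcon
    obtain ⟨n, hn⟩ := hKbot
    exact (Nat.rec (motive := fun n => ¬ K n ≤ stabilizer G c) h0 (fun m hm => hcon m hm) n) hn
  set B := K n with hB
  obtain ⟨b₀, hb₀, hb₀c⟩ := SetLike.not_le_iff_exists.1 hn
  rw [mem_stabilizer_iff] at hb₀c
  have hBΓ : B ≤ Γ := (hKodd n).trans (map_subtype_le _)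
  have hBodd : Odd (Nat.card B) := hOodd.of_dvd_nat (Subgroup.card_dvd_of_le (hKodd n))
  have hfix : ∀ {x : G}, x ∈ K (n + 1) → ∀ {γ : G}, γ ∈ Γ → x • γ • c = γ • c :=
    fun hx _ hγ => fix_orbit (hKN (n + 1)) hn' hγ hx
  -- `B` induces an abelian regular group on the orbit
  have hcomm : ∀ {b b' : G}, b ∈ B → b' ∈ B → b • b' • c = b' • b • c := by
    intro b b' hb hb'
    have h1 : ⁅b, b'⁆ ∈ K (n + 1) := hKs n ▸ commutator_mem_commutator hb hb'
    have h2 := hfix h1 (mul_mem (hBΓ hb') (hBΓ hb))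
    rw [← mul_smul, commutatorElement_def, mul_smul] at h2
    rw [← mul_smul, ← mul_smul b' b]
    calc (b * b') • c = (b * b' * b⁻¹ * b'⁻¹ * (b' * b)) • c := by group
      _ = (b' * b) • c := by rw [mul_smul]; exact h2
  have horb : ∀ e, (∃ γ ∈ Γ, γ • c = e) → ∃ b ∈ B, b • c = e := by
    intro e he
    rcases eq_or_ne e c with rfl | hec
    · exact ⟨1, one_mem _, one_smul _ _⟩
    obtain ⟨g, hgΓ, hgu, hge⟩ := htr (b₀ • c) e ⟨b₀, hBΓ hb₀, rfl⟩ he hb₀c hec
    refine ⟨g * b₀ * g⁻¹, conj_mem_of_mem_normalizer (hKN n hgΓ) hb₀, ?_⟩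
    rw [mul_smul, mul_smul, inv_smul_eq_iff.2 (SE.commute_fixes hH hu huc hgu).symm, hge]
  obtain ⟨v, hv, hvc⟩ := horb a haO
  set v₁ := u * v * u⁻¹ with hv₁def
  have hv₁ : v₁ ∈ B := conj_mem_of_mem_normalizer (hKN n huΓ) hv
  have hβ : (v * v₁) • c = c := by
    obtain ⟨m, hm, hmc⟩ := Coprime.exists_mul_mem_centralizer (A := zpowers u) (N := K (n + 1))
      (zpowers_le.2 (hKN (n + 1) huΓ))
      (coprime_zpowers hu (hOodd.of_dvd_nat (Subgroup.card_dvd_of_le (hKodd (n + 1)))))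
      (.inl (Coprime.isSolvable_zpowers u)) (k := v * v₁) (by
        intro x hx
        obtain ⟨j, rfl⟩ := mem_zpowers_iff.1 hx
        have hbase : ⁅u, v * v₁⁆ ∈ K (n + 1) := by
          rw [show ⁅u, v * v₁⁆ = ⁅v₁, v⁆ by
            rw [commutatorElement_def, commutatorElement_def, hv₁def, inv_eq hu]
            simp only [mul_inv_rev, inv_eq hu, mul_assoc]
            rw [← mul_assoc u u, mul_self hu, one_mul]]
          exact hKs n ▸ commutator_mem_commutator hv₁ hv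
        rcases Int.even_or_odd j with ⟨i, rfl⟩ | ⟨i, rfl⟩
        · rw [← two_mul, zpow_mul, show u ^ (2 : ℤ) = 1 by rw [zpow_two, mul_self hu], one_zpow,
            commutatorElement_one_left]
          exact one_mem _
        · rw [zpow_add_one, zpow_mul, show u ^ (2 : ℤ) = 1 by
            rw [zpow_two, mul_self hu], one_zpow, one_mul]
          exact hbase)
    have h1 := SE.commute_fixes hH hu huc (centralizer_zpowers_mem hmc)
    have h2 := hfix hm (mul_mem (hBΓ hv) (hBΓ hv₁))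
    rw [mul_smul] at h1
    rwa [h2] at h1
  have hua : u • a = v⁻¹ • c := by
    rw [eq_inv_smul_iff, ← hvc]
    conv_lhs => rw [show u • v • c = v₁ • c by
      rw [hv₁def, inv_eq hu, mul_smul, huc, mul_smul]]
    rw [← mul_smul]; exact hβ
  obtain ⟨τ, hτ, hτc⟩ := horb _ ⟨k, hkΓ, rfl⟩
  set v' := k * v * k⁻¹ with hv'def
  have hv' : v' ∈ B := conj_mem_of_mem_normalizer (hKN n hkΓ) hv
  set z := v'⁻¹ * v with hz
  have e1 : τ • c = z • c := by
    rw [hz, mul_smul, eq_inv_smul_iff, hτc, hv'def, mul_smul, mul_smul, inv_smul_smul, hvc, hka]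
  have e2 : τ • c = (v' * v⁻¹) • c := by
    have h : k • v⁻¹ • c = v⁻¹ • c := by rw [← hua, hkb]
    have h' : v'⁻¹ • τ • c = v⁻¹ • c := by
      rw [hτc, hv'def, mul_inv_rev, mul_inv_rev, inv_inv, mul_smul, mul_smul, inv_smul_smul, h]
    rw [mul_smul, ← h', smul_inv_smul]
  have e3 : (z * z) • c = c := by
    rw [mul_smul]
    conv_lhs => rw [← e1, e2, hz, mul_smul v' v⁻¹, mul_smul v'⁻¹ v, hcomm hv' (inv_mem hv),
      smul_inv_smul, inv_smul_smul]
  have hzB : z ∈ B := mul_mem (inv_mem hv') hv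
  have hzc : z • c = c := mem_stabilizer_iff.1 (ZStar.mem_of_sq_mem
    (hBodd.of_dvd_nat (Subgroup.orderOf_dvd_natCard B hzB))
    (mem_stabilizer_iff.2 e3))
  exact hkc (hτc.symm.trans (e1.trans hzc))

end CfsgLib.LocalEven.SwapInjective
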