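import Cfsg.Agent.Lib.LocalEven.SwapInjective.Algebra
import Cfsg.Agent.Lib.LocalEven.SwapInjective.Orbit

/-!
# Quadratically acting elements and the point of a four-group

An element acting quadratically which is suitably related to a four-group `⟨u, w⟩` fixes the
coset fixed by `u`.
-/

set_option autoImplicit false

namespace CfsgLib.LocalEven.SwapInjective

open Subgroup MulAction CfsgLib.Involution.Dihedral CfsgLib.Involution
open scoped commutatorElement

universe u

theorem forall_zpowers_involution {X : Type*} [Group X] {u : X} (hu : orderOf u = 2) {P : X → Prop}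
    (h1 : P 1) (h2 : P u) : ∀ x ∈ zpowers u, P x := by
  intro x hx
  obtain ⟨j, rfl⟩ := mem_zpowers_iff.1 hx
  have e : u ^ (2 : ℤ) = 1 := by rw [zpow_two, mul_self hu]
  rcases Int.even_or_odd j with ⟨i, rfl⟩ | ⟨i, rfl⟩
  · rwa [← two_mul, zpow_mul, e, one_zpow]
  · rwa [zpow_add_one, zpow_mul, e, one_zpow, one_mul]

theorem normalizer_closure {X : Type*} [Group X] [Finite X] {s : Set X} {g : X}
    (h : ∀ y ∈ s, g * y * g⁻¹ ∈ Subgroup.closure s) :
    g ∈ normalizer (Subgroup.closure s : Set X) := by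
  refine Coprime.mem_normalizer_of_conj_map_le fun y hy => ?_
  have h1 : Subgroup.closure s ≤ (Subgroup.closure s).comap (MulAut.conj g).toMonoidHom :=
    (Subgroup.closure_le _).2 h
  exact h1 hy

variable {G : Type u} [Group G] [Finite G] {H : Subgroup G}

/-- The data of the lemma. -/
structure Acting (H : Subgroup G) (c : G ⧸ H) (r : ℕ) {X : Type u} [Group X] (ι : X →* G)
    {R : Type u} [Ring R] (φ : X →* Rˣ) (u w : X) (Q : Subgroup X) : Prop where
  inj : Function.Injective ι
  char : ∃ N : ℕ, Odd N ∧ (N : R) = 0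
  ker : ∀ t : X, orderOf t = 2 → φ t ≠ 1
  inv : orderOf u = 2
  inv' : orderOf w = 2
  comm : Commute u w
  ne : u ≠ w
  fix : ι u • c = c
  pgroup : IsPGroup r Q
  norm : u ∈ normalizer (Q : Set X)
  fixed : ∀ p ∈ Q, Commute p u → Commute (φ p) (φ w)
  stab : ∀ t ∈ Q, ι t • c = c → φ (u * t * u) = φ t

namespace Acting

variable {c : G ⧸ H} {r : ℕ} {X : Type u} [Group X] [Finite X] {ι : X →* G}
  {R : Type u} [Ring R] {φ : X →* Rˣ} {u w : X} {Q : Subgroup X} (h : Acting H c r ι φ u w Q)

include h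

theorem odd_ker : Odd (Nat.card φ.ker) := by
  rw [← Nat.not_even_iff_odd]
  intro he
  obtain ⟨t, ht, ht2⟩ := Basic.exists_involution_of_even _ he
  exact h.ker t ht2 ht

/-- An element whose image commutes with that of `u` may be replaced by one commuting with `u`. -/
theorem exists_lift {S : Subgroup X} (hS : u ∈ normalizer (S : Set X)) {y : X} (hy : y ∈ S)
    (hc : Commute (φ u) (φ y)) : ∃ p ∈ S, φ p = φ y ∧ Commute p u := by
  have huN : u ∈ normalizer ((φ.ker ⊓ S : Subgroup X) : Set X) :=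
    BenderTransitive.mem_normalizer_inf' (by
      rw [normalizer_eq_top_iff.2 (inferInstance : φ.ker.Normal)]; exact mem_top _) hS
  obtain ⟨n, hn, hnc⟩ := Coprime.exists_mul_mem_centralizer (A := zpowers u) (N := φ.ker ⊓ S)
    (zpowers_le.2 huN)
    (BenderTransitive.coprime_zpowers h.inv
      (h.odd_ker.of_dvd_nat (Subgroup.card_dvd_of_le inf_le_left)))
    (.inl (Coprime.isSolvable_zpowers u)) (k := y)
    (forall_zpowers_involution h.inv (by rw [commutatorElement_one_left]; exact one_mem _) (by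
      refine Subgroup.mem_inf.2 ⟨?_, ?_⟩
      · rw [MonoidHom.mem_ker, map_commutatorElement]
        exact commutatorElement_eq_one_iff_commute.2 hc
      · rw [commutatorElement_def]
        exact mul_mem (BenderTransitive.conj_mem_of_mem_normalizer hS hy) (inv_mem hy)))
  refine ⟨n * y, mul_mem hn.2 hy, by rw [map_mul, MonoidHom.mem_ker.1 hn.1, one_mul], ?_⟩
  exact BenderTransitive.centralizer_zpowers_mem hnc

variable (hH : Cfsg.IsStronglyEmbedded H)

include hH

theorem map_le_stabilizer {N : Subgroup X} (hN : Odd (Nat.card N))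
    (huN : u ∈ normalizer (N : Set X)) (hwN : w ∈ normalizer (N : Set X)) :
    N.map ι ≤ stabilizer G c :=
  le_stabilizer_of_four hH (hN.of_dvd_nat (N.card_map_dvd ι))
    ((orderOf_injective ι h.inj u).trans h.inv) h.fix
    ((orderOf_injective ι h.inj w).trans h.inv') (h.comm.map ι) (fun e => h.ne (h.inj e))
    (le_normalizer_map ι ⟨u, huN, rfl⟩) (le_normalizer_map ι ⟨w, hwN, rfl⟩)

/-- The case where the images of `x` and `u x u` commute. -/
theorem fix_of_commute (hr : r.Prime) (hr2 : r ≠ 2) {x : X} (hxQ : x ∈ Q) (hx : Quad (φ x))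
    (hxc : Commute (φ x) (φ (u * x * u))) : ι x • c = c := by
  classical
  haveI := Fact.mk hr
  obtain ⟨N, hN, hR⟩ := h.char
  have hUU : φ u * φ u = 1 := by rw [← map_mul, mul_self h.inv, map_one]
  have hWW : φ w * φ w = 1 := by rw [← map_mul, mul_self h.inv', map_one]
  set U := φ u with hU
  set W := φ w with hW
  have hUW : Commute U W := h.comm.map φ
  have hUi : U⁻¹ = U := inv_eq_of_mul_eq_one_right hUU
  have hWi : W⁻¹ = W := inv_eq_of_mul_eq_one_right hWW
  set x' := u * x * u with hx'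
  have hx'Q : x' ∈ Q := by
    have := BenderTransitive.conj_mem_of_mem_normalizer h.norm hxQ
    rwa [inv_eq h.inv] at this
  set a := φ x with ha
  set a' := φ x' with ha'
  have ea' : a' = U * a * U⁻¹ := by rw [ha', hx', map_mul, map_mul, hUi]
  set b := W * a * W⁻¹ with hb
  set b' := W * a' * W⁻¹ with hb'
  set q := a * a' with hq
  have hUq : Commute U q := by
    have e : U * q * U⁻¹ = q := by
      rw [hq, ea']
      calc U * (a * (U * a * U⁻¹)) * U⁻¹ = (U * a * U⁻¹) * (U * U) * a * (U * U)⁻¹ := by group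
        _ = a * (U * a * U⁻¹) := by
          rw [hUU, mul_one, inv_one, mul_one, ← ea']; exact hxc.eq.symm
    exact mul_inv_eq_iff_eq_mul.1 e
  have hxx : x * x' ∈ Q := mul_mem hxQ hx'Q
  obtain ⟨p, hp, hpq, hpu⟩ := h.exists_lift h.norm hxx (by rw [map_mul]; exact hUq)
  have hqW : Commute q W := by
    have := h.fixed p hp hpu
    rwa [hpq, map_mul, ← hW] at this
  have hqa : Commute q a := (Commute.refl a).mul_left hxc.symm
  have hbb : b * b' = q := by
    rw [hb, hb', show W * a * W⁻¹ * (W * a' * W⁻¹) = W * q * W⁻¹ by rw [hq]; group,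
      hqW.eq.symm, mul_inv_cancel_right]
  have hqb : Commute q b := (hqW.mul_right hqa).mul_right hqW.inv_right
  set S := Subgroup.closure ({a, b} : Set Rˣ) with hS
  set S' := Subgroup.closure ({a, a', b, b'} : Set Rˣ) with hS'
  have hqS : ∀ s ∈ S, Commute q s := fun s hs => by
    induction hs using Subgroup.closure_induction with
    | mem y hy => rcases hy with rfl | rfl <;> assumption
    | one => exact Commute.one_right q
    | mul y z _ _ h1 h2 => exact h1.mul_right h2
    | inv y _ h1 => exact h1.inv_right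
  have haS : a ∈ S := Subgroup.subset_closure (by simp)
  have hbS : b ∈ S := Subgroup.subset_closure (by simp)
  have hdec : ∀ e ∈ S', ∃ s ∈ S, ∃ j : ℤ, e = s * q ^ j := fun e he => by
    induction he using Subgroup.closure_induction with
    | mem y hy =>
      rcases hy with rfl | rfl | rfl | rfl
      · exact ⟨a, haS, 0, by simp⟩
      · exact ⟨a⁻¹, inv_mem haS, 1, by rw [zpow_one, hq, inv_mul_cancel_left]⟩
      · exact ⟨b, hbS, 0, by simp⟩
      · exact ⟨b⁻¹, inv_mem hbS, 1, by rw [zpow_one, ← hbb, inv_mul_cancel_left]⟩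
    | one => exact ⟨1, one_mem _, 0, by simp⟩
    | mul y z _ _ h1 h2 =>
      obtain ⟨s, hs, i, rfl⟩ := h1
      obtain ⟨t, ht, j, rfl⟩ := h2
      exact ⟨s * t, mul_mem hs ht, i + j, by
        rw [((hqS t ht).symm.zpow_right i).symm.mul_mul_mul_comm, ← zpow_add]⟩
    | inv y _ h1 =>
      obtain ⟨s, hs, i, rfl⟩ := h1
      exact ⟨s⁻¹, inv_mem hs, -i, by
        rw [mul_inv_rev, ← zpow_neg, ((hqS s hs).inv_right.zpow_left (-i)).eq]⟩
  have hqodd : Odd (orderOf q) := by
    obtain ⟨k, hk⟩ := (IsPGroup.iff_orderOf.1 h.pgroup) ⟨_, hxx⟩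
    rw [Subgroup.orderOf_mk] at hk
    have h1 : orderOf q ∣ r ^ k := by
      rw [← hk, show q = φ (x * x') from (map_mul φ x x').symm]; exact orderOf_map_dvd φ _
    exact (hr.odd_of_ne_two hr2).pow.of_dvd_nat h1
  -- involutions of `S'` are central
  have hcentral : ∀ e ∈ S', e * e = 1 → ∀ y ∈ S', Commute e y := by
    intro e he he2
    obtain ⟨s, hs, j, hsj⟩ := hdec e he
    obtain ⟨k, hk⟩ := hqodd
    have heS : e ∈ S := by
      have e1 : e ^ orderOf q = e := by
        rw [hk, pow_succ, pow_mul, pow_two, he2, one_pow, one_mul]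
      rw [← e1, hsj, ((hqS s hs).symm.zpow_right j).mul_pow, ← zpow_natCast (q ^ j),
        zpow_comm, zpow_natCast, pow_orderOf_eq_one, one_zpow, mul_one]
      exact pow_mem hs _
    obtain ⟨c1, c2⟩ := commute_of_involution hN hR hx (hx.conj W) heS he2
    have c3 : Commute e q := (hqS e heS).symm
    intro y hy
    induction hy using Subgroup.closure_induction with
    | mem y hy =>
      rcases hy with rfl | rfl | rfl | rfl
      · exact c1
      · rw [show a' = a⁻¹ * q by rw [hq, inv_mul_cancel_left]]; exact c1.inv_right.mul_right c3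
      · exact c2
      · rw [show b' = b⁻¹ * q by rw [← hbb, inv_mul_cancel_left]]; exact c2.inv_right.mul_right c3
    | one => exact Commute.one_right e
    | mul y z _ _ h1 h2 => exact h1.mul_right h2
    | inv y _ h1 => exact h1.inv_right
  have hUinv : ∀ y ∈ ({a, a', b, b'} : Set Rˣ), U * y * U⁻¹ ∈ S' := by
    have e1 : U * a' * U⁻¹ = a := by
      rw [ea', hUi]; simp only [← mul_assoc, hUU, one_mul]; rw [mul_assoc, hUU, mul_one]
    have e2 : ∀ z, U * (W * z * W⁻¹) * U⁻¹ = W * (U * z * U⁻¹) * W⁻¹ := fun z => by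
      calc U * (W * z * W⁻¹) * U⁻¹ = (U * W) * z * (U * W)⁻¹ := by group
        _ = (W * U) * z * (W * U)⁻¹ := by rw [hUW.eq]
        _ = W * (U * z * U⁻¹) * W⁻¹ := by group
    rintro y (rfl | rfl | rfl | rfl)
    · rw [← ea']; exact Subgroup.subset_closure (by simp)
    · rw [e1]; exact Subgroup.subset_closure (by simp)
    · rw [hb, e2, ← ea', ← hb']; exact Subgroup.subset_closure (by simp)
    · rw [hb', e2, e1, ← hb]; exact Subgroup.subset_closure (by simp)
  have hWinv : ∀ y ∈ ({a, a', b, b'} : Set Rˣ), W * y * W⁻¹ ∈ S' := by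
    have e1 : ∀ z, W * (W * z * W⁻¹) * W⁻¹ = z := fun z => by
      rw [hWi]; simp only [← mul_assoc, hWW, one_mul]; rw [mul_assoc, hWW, mul_one]
    rintro y (rfl | rfl | rfl | rfl)
    · rw [← hb]; exact Subgroup.subset_closure (by simp)
    · rw [← hb']; exact Subgroup.subset_closure (by simp)
    · rw [hb, e1]; exact Subgroup.subset_closure (by simp)
    · rw [hb', e1]; exact Subgroup.subset_closure (by simp)
  haveI : Finite φ.range := Set.finite_range φ
  have hS'r : S' ≤ φ.range := (Subgroup.closure_le _).2 (by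
    rintro y (rfl | rfl | rfl | rfl)
    · exact ⟨x, rfl⟩
    · exact ⟨x', rfl⟩
    · exact ⟨w * x * w⁻¹, by rw [map_mul, map_mul, map_inv]⟩
    · exact ⟨w * x' * w⁻¹, by rw [map_mul, map_mul, map_inv]⟩)
  have hnorm : ∀ {g : X}, (∀ y ∈ ({a, a', b, b'} : Set Rˣ), φ g * y * (φ g)⁻¹ ∈ S') →
      g ∈ normalizer ((S'.comap φ : Subgroup X) : Set X) := by
    intro g hg
    refine Coprime.mem_normalizer_of_conj_map_le fun y hy => ?_
    rw [Subgroup.mem_comap, map_mul, map_mul, map_inv]
    have h1 : S' ≤ S'.comap (MulAut.conj (φ g)).toMonoidHom :=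
      (Subgroup.closure_le _).2 hg
    exact h1 hy
  by_cases hF : Odd (Nat.card (S'.comap φ))
  · exact h.map_le_stabilizer hH hF (hnorm hUinv) (hnorm hWinv)
      ⟨x, show φ x ∈ S' from Subgroup.subset_closure (by simp [ha]), rfl⟩
  obtain ⟨σ, hσ, hσ2⟩ := Basic.exists_involution_of_even _ (Nat.not_odd_iff_even.1 hF)
  -- an involution of `S'` commuting with `U` and `W`
  have hfix : ∀ (V : Rˣ), V * V = 1 → (∀ y ∈ ({a, a', b, b'} : Set Rˣ), V * y * V⁻¹ ∈ S') →
      ∀ e ∈ S', e * e = 1 → e ≠ 1 → ∃ f ∈ S', f * f = 1 ∧ f ≠ 1 ∧ Commute V f ∧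
        ∀ U' : Rˣ, Commute U' V → Commute U' e → Commute U' f := by
    intro V hVV hV e he he2 he1
    have hV' : V * e * V⁻¹ ∈ S' := by
      have h1 : S' ≤ S'.comap (MulAut.conj V).toMonoidHom :=
        (Subgroup.closure_le _).2 hV
      exact h1 he
    by_cases hVe : Commute V e
    · exact ⟨e, he, he2, he1, hVe, fun _ _ h' => h'⟩
    have hc := hcentral e he he2 _ hV'
    have e2 : V * e * V⁻¹ * (V * e * V⁻¹) = 1 := by
      rw [show V * e * V⁻¹ * (V * e * V⁻¹) = V * (e * e) * V⁻¹ by group, he2]; group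
    refine ⟨e * (V * e * V⁻¹), mul_mem he hV', by rw [hc.symm.mul_mul_mul_comm, he2, e2, one_mul],
      fun h1 => hVe ?_, ?_, fun U' h1 h2 => h2.mul_right ((h1.mul_right h2).mul_right h1.inv_right)⟩
    · rw [mul_eq_one_iff_eq_inv, inv_eq_of_mul_eq_one_right e2] at h1
      exact mul_inv_eq_iff_eq_mul.1 h1.symm
    · refine mul_inv_eq_iff_eq_mul.1 ?_
      calc V * (e * (V * e * V⁻¹)) * V⁻¹ = (V * e * V⁻¹) * ((V * V) * e * (V * V)⁻¹) := by group
        _ = e * (V * e * V⁻¹) := by rw [hVV, inv_one, one_mul, mul_one, hc.eq]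
  obtain ⟨e₁, he₁, he₁2, he₁1, hUe₁, -⟩ := hfix U hUU hUinv (φ σ) hσ
    (by rw [← map_mul, mul_self hσ2, map_one]) (h.ker σ hσ2)
  obtain ⟨e, he, he2, he1, hWe, hUe'⟩ := hfix W hWW hWinv e₁ he₁ he₁2 he₁1
  have hUe : Commute U e := hUe' U hUW hUe₁
  -- lift it to an involution commuting with `u`
  obtain ⟨g, hg⟩ := hS'r he
  obtain ⟨g', -, hg', hgu⟩ := h.exists_lift (S := ⊤) (y := g)
    (by rw [normalizer_eq_top_iff.2 inferInstance]; exact mem_top _) (mem_top _)
    (by rw [hg]; exact hUe)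
  set d := orderOf (g' * g') with hd
  have hdodd : Odd d := h.odd_ker.of_dvd_nat (Subgroup.orderOf_dvd_natCard _
    (MonoidHom.mem_ker.2 (by rw [map_mul, hg', hg, he2])))
  set t := g' ^ d with ht
  have htφ : φ t = e := by
    obtain ⟨k, hk⟩ := hdodd
    rw [ht, map_pow, hg', hg, hk, pow_succ, pow_mul, pow_two, he2, one_pow, one_mul]
  have htt : t * t = 1 := by rw [ht, ← (Commute.refl g').mul_pow, hd, pow_orderOf_eq_one]
  have ht2 : orderOf t = 2 := orderOf_eq_two htt fun h1 => he1 (by rw [← htφ, h1, map_one])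
  have htc : ι t • c = c := SE.commute_fixes hH ((orderOf_injective ι h.inj u).trans h.inv) h.fix
    ((hgu.pow_left d).map ι)
  -- its conjugate by `x`
  set t' := x * t * x⁻¹ with ht'
  have ht'2 : orderOf t' = 2 := (orderOf_conj x t).trans ht2
  have hmem : t * t' ∈ φ.ker := by
    rw [MonoidHom.mem_ker, map_mul, ht', map_mul, map_mul, map_inv, htφ,
      ← (hcentral e he he2 a (Subgroup.subset_closure (by simp))).eq, mul_inv_cancel_right, he2]
  obtain ⟨k, hk, hkt⟩ := exists_conj_of_odd ht2 ht'2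
    (h.odd_ker.of_dvd_nat (Subgroup.orderOf_dvd_natCard _ hmem))
  have hkc : ι k • c = c := by
    refine h.map_le_stabilizer hH h.odd_ker ?_ ?_ ⟨k, zpowers_le.2 hmem hk, rfl⟩ <;>
      rw [normalizer_eq_top_iff.2 (inferInstance : φ.ker.Normal)] <;> exact mem_top _
  refine SE.fixed_unique hH ((orderOf_injective ι h.inj t').trans ht'2) ?_ ?_
  · rw [ht', map_mul, map_mul, map_inv, smul_smul, inv_mul_cancel_right, mul_smul, htc]
  · rw [← hkt, map_mul, map_mul, map_inv, mul_smul, mul_smul, inv_smul_eq_iff.2 hkc.symm, htc,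
      hkc]

end Acting

theorem exists_second_central {T : Type*} [Group T] [Finite T] {r : ℕ} [Fact r.Prime]
    (hT : IsPGroup r T) {a a' : T} (hgen : Subgroup.closure ({a, a'} : Set T) = ⊤)
    (hne : ¬ Commute a a') :
    ∃ z : T, (∀ y, ⁅z, y⁆ ∈ center T) ∧ (¬ Commute a z ∨ ¬ Commute a' z) := by
  have hnt : Nontrivial (T ⧸ center T) := by
    rw [QuotientGroup.nontrivial_iff]
    intro h
    exact hne ((mem_center_iff.1 (h ▸ mem_top a') a : a * a' = a' * a))
  haveI := (hT.to_quotient (center T)).center_nontrivial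
  obtain ⟨⟨zbar, hzbar⟩, hz1⟩ := exists_ne (1 : center (T ⧸ center T))
  obtain ⟨z, rfl⟩ := QuotientGroup.mk_surjective zbar
  refine ⟨z, fun y => ?_, ?_⟩
  · rw [← QuotientGroup.eq_one_iff]
    change QuotientGroup.mk' (center T) ⁅z, y⁆ = 1
    rw [map_commutatorElement, commutatorElement_eq_one_iff_commute]
    exact (mem_center_iff.1 hzbar _).symm
  · by_contra hcon
    push Not at hcon
    refine hz1 (Subtype.ext ((QuotientGroup.eq_one_iff z).2 (mem_center_iff.2 fun y => ?_)))
    have : ({z} : Set T) ⊆ centralizer (Subgroup.closure ({a, a'} : Set T) : Set T) := by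
      rw [centralizer_closure, Set.singleton_subset_iff]
      refine mem_centralizer_iff.2 ?_
      rintro y (rfl | rfl)
      exacts [hcon.1.eq, hcon.2.eq]
    rw [hgen, Set.singleton_subset_iff] at this
    exact mem_centralizer_iff.1 this y (mem_top y)

variable (hH : Cfsg.IsStronglyEmbedded H)

include hH

/-- Quadratically acting elements fix the point of the four-group. -/
theorem quad_fix {c : G ⧸ H} {r : ℕ} (hr : r.Prime) (hr2 : r ≠ 2) :
    ∀ (n : ℕ) (X : Type u) [Group X] [Finite X] (ι : X →* G) (R : Type u) [Ring R] (φ : X →* Rˣ)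
      (u w : X) (Q : Subgroup X), Nat.card φ.range = n → Acting H c r ι φ u w Q →
      ∀ x ∈ Q, Quad (φ x) → ι x • c = c := by
  haveI := Fact.mk hr
  intro n
  induction n using Nat.strong_induction_on with
  | _ n ih =>
  intro X _ _ ι R _ φ u w Q hn h x hxQ hx
  classical
  by_cases hxc : Commute (φ x) (φ (u * x * u))
  · exact h.fix_of_commute hH hr hr2 hxQ hx hxc
  set x' := u * x * u with hx'
  have hx'Q : x' ∈ Q := by
    have := BenderTransitive.conj_mem_of_mem_normalizer h.norm hxQ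
    rwa [inv_eq h.inv] at this
  set T := Subgroup.closure ({x, x'} : Set X) with hT
  have hTQ : T ≤ Q := (Subgroup.closure_le _).2 (by
    rintro y (rfl | rfl) <;> assumption)
  set Tb := T.map φ with hTb
  haveI : Finite Tb := by
    haveI : Finite φ.range := Set.finite_range φ
    exact Finite.of_injective _ (Subgroup.inclusion_injective (map_le_range φ T))
  have hTbgen : Tb = Subgroup.closure ({φ x, φ x'} : Set Rˣ) := by
    rw [hTb, hT, MonoidHom.map_closure, Set.image_pair]
  have hxT : φ x ∈ Tb := hTbgen ▸ Subgroup.subset_closure (by simp)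
  have hx'T : φ x' ∈ Tb := hTbgen ▸ Subgroup.subset_closure (by simp)
  obtain ⟨z, hz, hz'⟩ := exists_second_central (r := r) ((h.pgroup.to_le hTQ).map φ)
    (a := (⟨φ x, hxT⟩ : Tb)) (a' := ⟨φ x', hx'T⟩) (by
      apply Subgroup.map_injective Tb.subtype_injective
      rw [MonoidHom.map_closure, Set.image_pair, ← MonoidHom.range_eq_map, range_subtype]
      exact hTbgen.symm)
    (fun e => hxc (e.map Tb.subtype))
  -- the element not commuting with `z`
  obtain ⟨x₀, hx₀T, hx₀, hzx₀⟩ : ∃ x₀ ∈ T, Quad (φ x₀) ∧ ¬ Commute (φ x₀) (z : Rˣ) := by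
    rcases hz' with h' | h'
    · exact ⟨x, Subgroup.subset_closure (by simp), hx, fun e => h' (Subtype.ext e.eq)⟩
    · refine ⟨x', Subgroup.subset_closure (by simp), ?_, fun e => h' (Subtype.ext e.eq)⟩
      rw [hx', map_mul, map_mul]
      have := hx.conj (φ u)
      rwa [← map_inv, inv_eq h.inv] at this
  obtain ⟨g, hgT, hgz⟩ := z.2
  set y := x₀⁻¹ * (g⁻¹ * x₀ * g) with hy
  set η := φ y with hη
  have hyT : y ∈ T := mul_mem (inv_mem hx₀T) (mul_mem (mul_mem (inv_mem hgT) hx₀T) hgT)
  have eη : η = (φ x₀)⁻¹ * ((z : Rˣ)⁻¹ * φ x₀ * z) := by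
    rw [hη, hy, map_mul, map_inv, map_mul, map_mul, map_inv, hgz]
  -- `η` is central in the image of `T`
  have hηc : ∀ s ∈ Tb, Commute η s := by
    have hmem : φ x₀ ∈ Tb := ⟨x₀, hx₀T, rfl⟩
    have h1 := hz (⟨φ x₀, hmem⟩ : Tb)⁻¹
    have h2 : (⟨φ x₀, hmem⟩ : Tb)⁻¹ * z⁻¹ * ⟨φ x₀, hmem⟩ * z ∈ center Tb := by
      have := Subgroup.Normal.conj_mem inferInstance _ h1 z⁻¹
      rw [commutatorElement_def] at this
      convert this using 1
      group
    intro s hs
    have h3 := mem_center_iff.1 h2 ⟨s, hs⟩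
    have h4 := congrArg Subtype.val h3
    rw [eη, show (φ x₀)⁻¹ * ((z : Rˣ)⁻¹ * φ x₀ * z) = (φ x₀)⁻¹ * (z : Rˣ)⁻¹ * φ x₀ * z by group]
    exact h4.symm
  have hη1 : η ≠ 1 := fun e => by
    apply hzx₀
    rw [eη, inv_mul_eq_one] at e
    show φ x₀ * z = z * φ x₀
    conv_rhs => rw [e]
    group
  obtain ⟨N, hN, hR⟩ := h.char
  have hηq : Quad η := by
    refine quad_of_mul hN hR (hηc _ ⟨x₀, hx₀T, rfl⟩).symm hx₀ ?_ ?_
    · rw [eη, mul_inv_cancel_left]
      simpa using hx₀.conj ((z : Rˣ)⁻¹)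
    · have h1 : φ x₀ * η = (z : Rˣ)⁻¹ * φ x₀ * z := by rw [eη, mul_inv_cancel_left]
      have h2 : (z : Rˣ) * φ x₀ * (z : Rˣ)⁻¹ = φ x₀ * η⁻¹ := by
        rw [eq_mul_inv_iff_mul_eq]
        calc (z : Rˣ) * φ x₀ * (z : Rˣ)⁻¹ * η = (z : Rˣ) * φ x₀ * ((z : Rˣ)⁻¹ * η) := by group
          _ = (z : Rˣ) * φ x₀ * (η * (z : Rˣ)⁻¹) := by
            rw [((hηc _ z.2).inv_right).eq]
          _ = (z : Rˣ) * (φ x₀ * η) * (z : Rˣ)⁻¹ := by group
          _ = φ x₀ := by rw [h1]; group
      rw [← h2]; exact hx₀.conj _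
  have huy : u * y * u ∈ T := by
    have h1 : T ≤ T.comap (MulAut.conj u).toMonoidHom := (Subgroup.closure_le _).2 (by
      rintro s (rfl | rfl)
      · change u * s * u⁻¹ ∈ T
        rw [inv_eq h.inv]; exact Subgroup.subset_closure (by simp [hx'])
      · change u * x' * u⁻¹ ∈ T
        rw [hx', inv_eq h.inv, show u * (u * x * u) * u = (u * u) * x * (u * u) by group,
          mul_self h.inv, one_mul, mul_one]
        exact Subgroup.subset_closure (by simp))
    have h2 := h1 hyT
    change u * y * u⁻¹ ∈ T at h2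
    rwa [inv_eq h.inv] at h2
  have hyc : ι y • c = c :=
    h.fix_of_commute hH hr hr2 (hTQ hyT) hηq (hηc _ ⟨_, huy, rfl⟩)
  have hUη : Commute (φ u) η := by
    have e := h.stab y (hTQ hyT) hyc
    have e2 := congrArg φ (show u * y * u * u = u * y by rw [mul_assoc, mul_self h.inv, mul_one])
    rw [map_mul φ (u * y * u), e, map_mul φ u y] at e2
    exact e2.symm
  obtain ⟨p, hp, hpη, hpu⟩ := h.exists_lift h.norm (hTQ hyT) hUη
  have hWη : Commute (φ w) η := by rw [hη, ← hpη]; exact (h.fixed p hp hpu).symm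
  -- pass to the centraliser of `η`
  set X' := (centralizer ({η} : Set Rˣ)).comap φ with hX'
  have memX' : ∀ {s : X}, Commute (φ s) η → s ∈ X' := fun hs => mem_centralizer_singleton_iff.2 hs.eq
  set C := Subring.centralizer ({(η : R)} : Set R) with hC
  let φc : X' →* Cˣ := MonoidHom.toHomUnits
    { toFun := fun s => (⟨(φ s : R), by
        rw [hC, Subring.mem_centralizer_iff]
        simp only [Set.mem_singleton_iff, forall_eq]
        exact (congrArg Units.val (mem_centralizer_singleton_iff.1 s.2)).symm⟩ : C)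
      map_one' := Subtype.ext (by simp)
      map_mul' := fun a b => Subtype.ext (by simp) }
  have hφc : ∀ s : X', ((φc s : C) : R) = φ s := fun s => rfl
  have he0C : (η : R) - 1 ∈ C := by
    rw [hC, Subring.mem_centralizer_iff]; simp [mul_sub, sub_mul]
  set e0 : C := ⟨(η : R) - 1, he0C⟩ with he0
  have he0c : ∀ a : C, e0 * a = a * e0 := fun a => Subtype.ext (by
    have ha := Subring.mem_centralizer_iff.1 a.2 (η : R) (Set.mem_singleton _)
    change ((η : R) - 1) * (a : R) = (a : R) * ((η : R) - 1)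
    rw [sub_mul, mul_sub, ha, one_mul, mul_one])
  set J := Ideal.span ({e0} : Set C) with hJ
  haveI : J.IsTwoSided := ⟨fun {a} b ha => by
    obtain ⟨c', rfl⟩ := Ideal.mem_span_singleton'.1 ha
    exact Ideal.mem_span_singleton'.2 ⟨c' * b, by rw [mul_assoc, ← he0c, ← mul_assoc]⟩⟩
  let φ' : X' →* (C ⧸ J)ˣ := (Units.map (Ideal.Quotient.mk J : C →* C ⧸ J)).comp φc
  have hφ'eq : ∀ s t : X', φ (s : X) = φ t → φ' s = φ' t := fun s t e => by
    have : φc s = φc t := Units.ext (Subtype.ext (by rw [hφc, hφc, e]))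
    change Units.map _ (φc s) = Units.map _ (φc t)
    rw [this]
  have hpX' : p ∈ X' := memX' (hpη ▸ Commute.refl η)
  have hlt : Nat.card φ'.range < n := by
    rw [← Subgroup.index_ker]
    have h1 : (φ.comp X'.subtype).ker < φ'.ker := by
      refine lt_of_le_not_ge (fun s hs => ?_) fun hle => ?_
      · rw [MonoidHom.mem_ker] at hs ⊢
        rw [hφ'eq s 1 (by simpa using hs), map_one]
      · have hp' : (⟨p, hpX'⟩ : X') ∈ φ'.ker := by
          rw [MonoidHom.mem_ker]
          refine Units.ext ?_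
          change Ideal.Quotient.mk J (φc ⟨p, hpX'⟩ : C) = 1
          rw [← map_one (Ideal.Quotient.mk J), Ideal.Quotient.eq]
          refine Ideal.mem_span_singleton'.2 ⟨1, ?_⟩
          rw [one_mul]
          refine Subtype.ext ?_
          change (η : R) - 1 = (φ p : R) - 1
          rw [hpη]
        have h2 : φ p = 1 := MonoidHom.mem_ker.1 (hle hp')
        exact hη1 (hpη.symm.trans h2)
    have h3 : φ'.ker.index < (φ.comp X'.subtype).ker.index := by
      rw [← Subgroup.relIndex_mul_index h1.le]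
      refine (Nat.lt_mul_iff_one_lt_left (Nat.pos_of_ne_zero ?_)).2 ?_
      · exact Subgroup.index_ne_zero_of_finite
      · refine Nat.lt_of_le_of_ne (Nat.one_le_iff_ne_zero.2 ?_) fun e1 => ?_
        · exact Subgroup.index_ne_zero_of_finite (H := (φ.comp X'.subtype).ker.subgroupOf φ'.ker)
        · exact h1.not_ge (Subgroup.relIndex_eq_one.1 e1.symm)
    refine h3.trans_le ?_
    rw [Subgroup.index_ker, ← hn]
    haveI : Finite φ.range := Set.finite_range φ
    exact Subgroup.card_le_of_le (by rw [MonoidHom.range_comp]; exact map_le_range φ _)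
  have hxX' : x ∈ X' := memX' (hηc _ hxT).symm
  have huX' : u ∈ X' := memX' hUη
  have hwX' : w ∈ X' := memX' hWη
  refine ih _ hlt X' (ι.comp X'.subtype) (C ⧸ J) φ' ⟨u, huX'⟩ ⟨w, hwX'⟩ (Q.subgroupOf X') rfl
    ⟨h.inj.comp X'.subtype_injective, ⟨N, hN, ?_⟩, ?_, (orderOf_mk u huX').trans h.inv,
      (orderOf_mk w hwX').trans h.inv', Subtype.ext h.comm.eq,
      fun e => h.ne (congrArg Subtype.val e), h.fix, ?_, ?_, ?_, ?_⟩ ⟨x, hxX'⟩ hxQ ?_
  · rw [← map_natCast (Ideal.Quotient.mk J), show ((N : C)) = 0 from Subtype.ext (by simp [hR]),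
      map_zero]
  · intro t ht htφ
    have h1 := congrArg Units.val htφ
    change Ideal.Quotient.mk J (φc t : C) = 1 at h1
    rw [← map_one (Ideal.Quotient.mk J), Ideal.Quotient.eq, Ideal.mem_span_singleton'] at h1
    obtain ⟨a, ha⟩ := h1
    have hδ : (φ (t : X) : R) - 1 = (a : R) * ((η : R) - 1) := (congrArg Subtype.val ha).symm
    have hδ2 : ((φ (t : X) : R) - 1) * ((φ (t : X) : R) - 1) = 0 := by
      have h0 : ((η : R) - 1) * (a : R) = (a : R) * ((η : R) - 1) := congrArg Subtype.val (he0c a)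
      rw [hδ, mul_assoc (a : R), ← mul_assoc ((η : R) - 1), h0, mul_assoc (a : R) _ ((η : R) - 1),
        hηq, mul_zero, mul_zero]
    have ht2 : (φ (t : X) : R) * (φ (t : X) : R) = 1 := by
      rw [← Units.val_mul, ← map_mul, show (t : X) * t = 1 from congrArg Subtype.val (mul_self ht),
        map_one, Units.val_one]
    refine h.ker t ((orderOf_coe t).trans ht) (Units.ext (sub_eq_zero.1 (two_cancel hN hR ?_)))
    rw [Units.val_one]
    calc (φ (t : X) : R) - 1 + ((φ (t : X) : R) - 1)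
        = ((φ (t : X) : R) * (φ (t : X) : R) - 1) -
            ((φ (t : X) : R) - 1) * ((φ (t : X) : R) - 1) := by noncomm_ring
      _ = 0 := by rw [ht2, hδ2, sub_self, sub_zero]
  · exact h.pgroup.comap_of_injective _ X'.subtype_injective
  · refine Coprime.mem_normalizer_of_conj_map_le fun s hs => ?_
    exact (BenderTransitive.conj_mem_of_mem_normalizer h.norm (hs : (s : X) ∈ Q) :
      u * (s : X) * u⁻¹ ∈ Q)
  · intro q hq hqu
    have hc' := h.fixed q hq (hqu.map X'.subtype)
    have h1 : φc q * φc ⟨w, hwX'⟩ = φc ⟨w, hwX'⟩ * φc q :=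
      Units.ext (Subtype.ext (congrArg Units.val hc'.eq))
    exact (show Commute (φc q) (φc ⟨w, hwX'⟩) from h1).map (Units.map (Ideal.Quotient.mk J : C →* C ⧸ J))
  · intro q hq hqc
    exact hφ'eq _ _ (h.stab q hq hqc)
  · have h1 : Quad (φc ⟨x, hxX'⟩) := Subtype.ext hx
    exact h1.map (Ideal.Quotient.mk J)

end CfsgLib.LocalEven.SwapInjective
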