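import Cfsg.Agent.Lib.LocalEven.SwapInjective.Lines
import Cfsg.Agent.Lib.LocalEven.BenderTransitive.Full
import Cfsg.Agent.Lib.Solvable.Cores
import Cfsg.Agent.Lib.Coprime.FixedPointFreeOnModule

/-!
# A swap configuration

An involution `u` fixing `c` and interchanging `a` and `u • a`, with a Sylow subgroup `R` of the
stabiliser of the three cosets on which `u` acts nontrivially.
-/

set_option autoImplicit false

namespace CfsgLib.LocalEven.SwapInjective

open Subgroup MulAction CfsgLib.Involution.Dihedral CfsgLib.Involution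
  CfsgLib.LocalEven.BenderTransitive
open scoped commutatorElement

universe u

variable {G : Type u} [Group G] [Finite G]

/-- The configuration. -/
structure Setup (H : Subgroup G) (u : G) (c a : G ⧸ H) (r : ℕ) (P R : Subgroup G) : Prop where
  se : Cfsg.IsStronglyEmbedded H
  comm : ∃ x y : G, orderOf x = 2 ∧ orderOf y = 2 ∧ x ≠ y ∧ Commute x y
  core : H.normalCore = ⊥
  below : SwapInjBelow.{u} (Nat.card G)
  inv : orderOf u = 2
  fix : u • c = c
  ne : a ≠ c
  prime : r.Prime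
  P_le : P ≤ stab2 a (u • a)
  P_card : Nat.card P = r ^ (Nat.card (stab2 a (u • a))).factorization r
  P_group : IsPGroup r P
  u_P : u ∈ normalizer (P : Set G)
  R_eq : R = P ⊓ stabilizer G c
  R_card : Nat.card R =
    r ^ (Nat.card ↥(stab2 a (u • a) ⊓ stabilizer G c)).factorization r
  not_central : u ∉ centralizer (R : Set G)

/-- A failure of `SwapInj` yields a configuration. -/
theorem exists_setup {H : Subgroup G} (hH : Cfsg.IsStronglyEmbedded H)
    (hcomm : ∃ x y : G, orderOf x = 2 ∧ orderOf y = 2 ∧ x ≠ y ∧ Commute x y)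
    (hcore : H.normalCore = ⊥) (hIH : SwapInjBelow.{u} (Nat.card G))
    {u u' : G} (hu : orderOf u = 2) (hu' : orderOf u' = 2) (hne : u ≠ u') {c a : G ⧸ H}
    (huc : u • c = c) (hu'c : u' • c = c) (hac : a ≠ c) (hag : u • a = u' • a) :
    ∃ r P R, Setup H u c a r P R := by
  have hab : a ≠ u • a := fun h => hac (SE.fixed_unique hH hu h.symm huc)
  set M := stab2 a (u • a) ⊓ stabilizer G c with hM
  have hModd : Odd (Nat.card M) :=
    (odd_stab2 hH hab).of_dvd_nat (Subgroup.card_dvd_of_le inf_le_left)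
  have huM : u ∈ normalizer (M : Set G) := mem_normalizer_inf' (swap_mem_normalizer hu rfl)
    (le_normalizer (mem_stabilizer_iff.2 huc))
  set j₀ := u' * u with hj₀
  have hj₀M : j₀ ∈ M := by
    refine ⟨mem_stab2.2 ⟨?_, ?_⟩, ?_⟩
    · rw [hj₀, mul_smul, hag, smul_smul, mul_self hu', one_smul]
    · rw [hj₀, mul_smul, swap_smul hu rfl, hag]
    · change j₀ • c = c
      rw [hj₀, mul_smul, huc, hu'c]
  have hj₀1 : j₀ ≠ 1 := fun h => hne ((mul_eq_one_iff_eq_inv.1 h).trans (inv_eq hu)).symm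
  set n := orderOf j₀ with hn
  have hn1 : n ≠ 1 := fun h => hj₀1 (orderOf_eq_one_iff.1 h)
  set r := n.minFac with hr
  haveI hrp : Fact r.Prime := ⟨Nat.minFac_prime hn1⟩
  set j := j₀ ^ (n / r) with hj
  have hjo : orderOf j = r := by
    rw [hj, orderOf_pow_of_dvd ?_ (Nat.div_dvd_of_dvd (Nat.minFac_dvd n))]
    · exact Nat.div_div_self (Nat.minFac_dvd n) (orderOf_pos j₀).ne'
    · exact (Nat.div_pos (Nat.minFac_le (orderOf_pos j₀)) hrp.out.pos).ne'
  have hjM : j ∈ M := pow_mem hj₀M _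
  have hinv : u * j * u⁻¹ = j⁻¹ := conj_pow (by
    rw [hj₀, mul_inv_rev, inv_eq hu', inv_eq hu, mul_assoc u, mul_assoc u', mul_self hu, mul_one]) _
  have hujj : u ∈ normalizer ((zpowers j : Subgroup G) : Set G) := by
    refine Coprime.mem_normalizer_of_conj_map_le fun y hy => ?_
    obtain ⟨k, rfl⟩ := mem_zpowers_iff.1 hy
    rw [conj_zpow hinv]
    exact zpow_mem (mem_zpowers j) _
  obtain ⟨R, hjR, hRM, hRc, hRr, huR⟩ := exists_inv_sylow_ge (p := r) hu hModd huM
    (zpowers_le.2 hjM) (IsPGroup.of_card (n := 1) (by rw [Nat.card_zpowers, hjo, pow_one])) hujj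
  obtain ⟨P, hRP, hPD, hPc, hPr, huP⟩ := exists_inv_sylow_ge (p := r) hu (odd_stab2 hH hab)
    (swap_mem_normalizer hu rfl) (hRM.trans inf_le_left) hRr huR
  have hle : R ≤ P ⊓ stabilizer G c := le_inf hRP (hRM.trans inf_le_right)
  have hReq : R = P ⊓ stabilizer G c := by
    refine Subgroup.eq_of_le_of_card_ge hle ?_
    obtain ⟨k, hk⟩ := IsPGroup.iff_card.1 (hPr.to_le (inf_le_left : P ⊓ stabilizer G c ≤ P))
    rw [hk, hRc]
    refine Nat.pow_le_pow_right hrp.out.pos
      ((hrp.out.pow_dvd_iff_le_factorization Nat.card_pos.ne').1 ?_)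
    rw [← hk]
    exact Subgroup.card_dvd_of_le (inf_le_inf_right _ hPD)
  refine ⟨r, P, R, hH, hcomm, hcore, hIH, hu, huc, hac, hrp.out, hPD, hPc, hPr, huP, hReq, hRc,
    fun h => ?_⟩
  have h1 := mem_centralizer_iff.1 h j (hjR (mem_zpowers j))
  have h2 : j = j⁻¹ := by
    rw [← hinv, ← h1, mul_inv_cancel_right]
  have hjj : j ^ 2 = 1 := by
    rw [pow_two]; conv_lhs => arg 2; rw [h2]
    exact mul_inv_cancel j
  have h3 : r ∣ 2 := hjo ▸ orderOf_dvd_of_pow_eq_one hjj
  have h4 : r = 2 := (Nat.prime_dvd_prime_iff_eq hrp.out Nat.prime_two).1 h3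
  have h5 : 2 ∣ Nat.card M := h4 ▸ hjo ▸ Subgroup.orderOf_dvd_natCard M hjM
  exact Nat.not_even_iff_odd.2 hModd (even_iff_two_dvd.2 h5)

namespace Setup

variable {H : Subgroup G} {u : G} {c a : G ⧸ H} {r : ℕ} {P R : Subgroup G}
  (s : Setup H u c a r P R)

include s

theorem ab_ne : a ≠ u • a := fun h => s.ne (SE.fixed_unique s.se s.inv h.symm s.fix)

theorem odd_D : Odd (Nat.card (stab2 a (u • a))) := odd_stab2 s.se s.ab_ne

theorem R_le_P : R ≤ P := s.R_eq ▸ inf_le_left

theorem R_le_c : R ≤ stabilizer G c := s.R_eq ▸ inf_le_right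

theorem R_le_D : R ≤ stab2 a (u • a) := s.R_le_P.trans s.P_le

theorem R_group : IsPGroup r R := s.P_group.to_le s.R_le_P

theorem u_R : u ∈ normalizer (R : Set G) := by
  rw [s.R_eq]
  exact mem_normalizer_inf' s.u_P (le_normalizer (mem_stabilizer_iff.2 s.fix))

theorem R_ne_bot : R ≠ ⊥ := by
  intro h
  refine s.not_central (mem_centralizer_iff.2 fun y hy => ?_)
  rw [h, SetLike.mem_coe, mem_bot] at hy
  rw [hy, one_mul, mul_one]

theorem r_ne_two : r ≠ 2 := by
  intro h
  haveI := Fact.mk s.prime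
  obtain ⟨k, hk⟩ := IsPGroup.iff_card.1 s.R_group
  rcases k with _ | k
  · exact s.R_ne_bot (Subgroup.card_eq_one.1 (by rw [hk, pow_zero]))
  · refine Nat.not_even_iff_odd.2 (s.odd_D.of_dvd_nat (Subgroup.card_dvd_of_le s.R_le_D)) ?_
    rw [hk, h]
    exact (Nat.even_pow.2 ⟨even_two, k.succ_ne_zero⟩)

/-- Transitivity of the centraliser of `u` on the other cosets. -/
theorem exists_centralizing {x : G ⧸ H} (hx : x ≠ c) :
    ∃ g : G, Commute g u ∧ g • a = x := by
  obtain ⟨g₀, hg₀c, hg₀a⟩ := pairTransitive s.se s.comm c a x s.ne hx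
  obtain ⟨d, hd, hdu⟩ := exists_conj_fixing s.se (Ne.symm hx) (s := g₀ * u * g₀⁻¹) (t := u)
    ((orderOf_conj g₀ u).trans s.inv)
    (by rw [mul_smul, mul_smul, inv_smul_eq_iff.2 hg₀c.symm, s.fix, hg₀c]) s.inv s.fix
  refine ⟨d * g₀, ?_, by rw [mul_smul, hg₀a]; exact (mem_stab2.1 hd).2⟩
  show d * g₀ * u = u * (d * g₀)
  calc d * g₀ * u = d * (g₀ * u * g₀⁻¹) * d⁻¹ * (d * g₀) := by group
    _ = u * (d * g₀) := by rw [hdu]

omit [Finite G] s in
theorem map_stab2_inf {g : G} {x y z x' y' z' : G ⧸ H} (hx : g • x = x') (hy : g • y = y')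
    (hz : g • z = z') :
    (stab2 x y ⊓ stabilizer G z).map (MulAut.conj g).toMonoidHom =
      stab2 x' y' ⊓ stabilizer G z' := by
  subst hx hy hz
  ext k
  simp only [mem_map_equiv, MulAut.conj_symm_apply, Subgroup.mem_inf, mem_stabilizer_iff, mul_smul,
    inv_smul_eq_iff]

/-- Witt's lemma for `R`. -/
theorem witt {x : G ⧸ H} (hx : x ≠ c) {Y : Subgroup G} (hY : IsPGroup r Y)
    (huY : u ∈ normalizer (Y : Set G)) (hYc : Y ≤ stabilizer G c) (hYx : Y ≤ stabilizer G x) :
    ∃ g : G, Commute g u ∧ g • a = x ∧ Y ≤ R.map (MulAut.conj g).toMonoidHom := by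
  haveI := Fact.mk s.prime
  obtain ⟨g, hgu, hga⟩ := s.exists_centralizing hx
  have hgc : g • c = c := SE.commute_fixes s.se s.inv s.fix hgu
  have hgb : g • u • a = u • x := by rw [smul_smul, hgu.eq, mul_smul, hga]
  set Mx := stab2 x (u • x) ⊓ stabilizer G c with hMx
  have hmap := map_stab2_inf (g := g) hga hgb hgc
  have hxne : x ≠ u • x := fun h => hx (SE.fixed_unique s.se s.inv h.symm s.fix)
  have hModd : Odd (Nat.card Mx) :=
    (odd_stab2 s.se hxne).of_dvd_nat (Subgroup.card_dvd_of_le inf_le_left)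
  have huM : u ∈ normalizer (Mx : Set G) := mem_normalizer_inf' (swap_mem_normalizer s.inv rfl)
    (le_normalizer (mem_stabilizer_iff.2 s.fix))
  obtain ⟨R', hYR', hR', hR'c, -, huR'⟩ := exists_inv_sylow_ge (p := r) s.inv hModd huM
    (le_inf (le_inf hYx (smul_of_normalizes huY hYx)) hYc) hY huY
  set Rg := R.map (MulAut.conj g).toMonoidHom with hRg
  have hRgM : Rg ≤ Mx := (Subgroup.map_mono (le_inf s.R_le_D s.R_le_c)).trans hmap.le
  have hRgc : Nat.card Rg = r ^ (Nat.card Mx).factorization r := by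
    rw [hRg, Coprime.card_conj_map, s.R_card, hMx, ← hmap, Coprime.card_conj_map]
  have huRg : u ∈ normalizer (Rg : Set G) := by
    have h := le_normalizer_map (H := R) (MulAut.conj g).toMonoidHom ⟨u, s.u_R, rfl⟩
    change g * u * g⁻¹ ∈ normalizer (Rg : Set G) at h
    rwa [hgu.eq, mul_inv_cancel_right] at h
  obtain ⟨d, hd, hdu, e⟩ := exists_commute_conj s.inv hModd huM hRgM hRgc huRg hR' hR'c huR'
  refine ⟨d * g, hdu.mul_left hgu, by rw [mul_smul, hga]; exact (mem_stab2.1 hd.1).1, ?_⟩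
  refine hYR'.trans (le_of_eq ?_)
  rw [← e, hRg, Subgroup.map_map]
  congr 1
  ext k
  simp [mul_assoc]

theorem witt_R {x : G ⧸ H} (hx : x ≠ c) (hRx : R ≤ stabilizer G x) :
    ∃ g ∈ normalizer (R : Set G), Commute g u ∧ g • a = x := by
  obtain ⟨g, hgu, hga, hle⟩ := s.witt hx s.R_group s.u_R s.R_le_c hRx
  refine ⟨g, mem_normalizer_iff_map_conj_eq.2 ?_, hgu, hga⟩
  exact (Subgroup.eq_of_le_of_card_ge hle (by rw [Coprime.card_conj_map])).symm

omit s in
/-- The commutator with `u`. -/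
theorem mem_commutator_of (u : G) {R : Subgroup G} {ρ : G} (hρ : ρ ∈ R) :
    ⁅ρ, u⁆ ∈ ⁅R, zpowers u⁆ := commutator_mem_commutator hρ (mem_zpowers u)

theorem A_le : ⁅R, zpowers u⁆ ≤ R :=
  le_normalizer_iff_commutator_le_left.1 (zpowers_le.2 s.u_R)

theorem u_A : u ∈ normalizer (⁅R, zpowers u⁆ : Subgroup G).carrier := by
  have h : u ∈ normalizer ((⁅R, zpowers u⁆ : Subgroup G) : Set G) := by
    rw [mem_normalizer_iff_map_conj_eq, Subgroup.map_commutator,
      mem_normalizer_iff_map_conj_eq.1 s.u_R,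
      mem_normalizer_iff_map_conj_eq.1 (le_normalizer (mem_zpowers u) :
        u ∈ normalizer ((zpowers u : Subgroup G) : Set G))]
  exact h

theorem coprime_u {Y : Subgroup G} (hY : Y ≤ R) : (Nat.card (zpowers u)).Coprime (Nat.card Y) :=
  coprime_zpowers s.inv (s.odd_D.of_dvd_nat (Subgroup.card_dvd_of_le (hY.trans s.R_le_D)))

theorem A_self : ⁅⁅R, zpowers u⁆, zpowers u⁆ = ⁅R, zpowers u⁆ :=
  Coprime.commutator_commutator_self (zpowers_le.2 s.u_R) (s.coprime_u le_rfl)
    (.inl (Coprime.isSolvable_zpowers u))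

theorem u_not_central_A : u ∉ centralizer ((⁅R, zpowers u⁆ : Subgroup G) : Set G) := by
  intro h
  have h1 : ⁅R, zpowers u⁆ = ⊥ := by
    rw [← s.A_self, commutator_eq_bot_iff_le_centralizer, le_centralizer_iff]
    exact zpowers_le.2 h
  rw [commutator_eq_bot_iff_le_centralizer, le_centralizer_iff] at h1
  exact s.not_central (h1 (mem_zpowers u))

theorem witt_A {x : G ⧸ H} (hx : x ≠ c) (hAx : ⁅R, zpowers u⁆ ≤ stabilizer G x) :
    ∃ g ∈ normalizer ((⁅R, zpowers u⁆ : Subgroup G) : Set G), Commute g u ∧ g • a = x := by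
  set A := ⁅R, zpowers u⁆ with hA
  obtain ⟨g, hgu, hga, hle⟩ := s.witt hx (s.R_group.to_le s.A_le) s.u_A (s.A_le.trans s.R_le_c) hAx
  refine ⟨g, mem_normalizer_iff_map_conj_eq.2 ?_, hgu, hga⟩
  refine (Subgroup.eq_of_le_of_card_ge (?_ : A ≤ A.map (MulAut.conj g).toMonoidHom)
    (by rw [Coprime.card_conj_map])).symm
  have hz : (zpowers u).map (MulAut.conj g).toMonoidHom = zpowers u := by
    rw [MonoidHom.map_zpowers]
    congr 1
    change g * u * g⁻¹ = u
    rw [hgu.eq, mul_inv_cancel_right]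
  calc A = ⁅A, zpowers u⁆ := s.A_self.symm
    _ ≤ ⁅R.map (MulAut.conj g).toMonoidHom, zpowers u⁆ := commutator_mono hle le_rfl
    _ = A.map (MulAut.conj g).toMonoidHom := by
      conv_rhs => rw [hA, Subgroup.map_commutator, hz]

/-- Orbits under a subgroup with a Witt property. -/
theorem orbit_of_witt {Γ Y : Subgroup G} (hΓ : Γ ≤ normalizer (Y : Set G))
    (hYc : Y ≤ stabilizer G c)
    (hw : ∀ x, x ≠ c → Y ≤ stabilizer G x → ∃ g ∈ Γ, Commute g u ∧ g • a = x)
    {k : G} (hk : k ∈ Γ) (hkc : k • c ≠ c) :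
    (∃ γ ∈ Γ, γ • c = a) ∧
      ∀ e f : G ⧸ H, (∃ γ ∈ Γ, γ • c = e) → (∃ γ ∈ Γ, γ • c = f) → e ≠ c → f ≠ c →
        ∃ g ∈ Γ, Commute g u ∧ g • e = f := by
  have hfix : ∀ {γ : G}, γ ∈ Γ → Y ≤ stabilizer G (γ • c) := fun hγ =>
    smul_of_normalizes (hΓ hγ) hYc
  refine ⟨?_, ?_⟩
  · obtain ⟨g, hg, -, hga⟩ := hw _ hkc (hfix hk)
    exact ⟨g⁻¹ * k, mul_mem (inv_mem hg) hk, by rw [mul_smul, ← hga, inv_smul_smul]⟩
  · rintro _ _ ⟨γ, hγ, rfl⟩ ⟨δ, hδ, rfl⟩ he hf
    obtain ⟨g₁, hg₁, hgu₁, hga₁⟩ := hw _ he (hfix hγ)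
    obtain ⟨g₂, hg₂, hgu₂, hga₂⟩ := hw _ hf (hfix hδ)
    exact ⟨g₂ * g₁⁻¹, mul_mem hg₂ (inv_mem hg₁), hgu₂.mul_left hgu₁.inv_left,
      by rw [mul_smul, ← hga₁, inv_smul_smul, hga₂]⟩

/-- Elements of `G_{a,b}` centralising the commutator of `R` with `u` fix `c`. -/
theorem centralizer_A_fix {k : G} (hk : k ∈ stab2 a (u • a))
    (hkA : k ∈ centralizer ((⁅R, zpowers u⁆ : Subgroup G) : Set G)) : k • c = c := by
  by_contra hkc
  set A := ⁅R, zpowers u⁆ with hA
  set Γ := normalizer (A : Set G) with hΓ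
  have hkΓ : k ∈ Γ := centralizer_le_normalizer _ hkA
  have huΓ : u ∈ Γ := s.u_A
  obtain ⟨haO, htr⟩ := s.orbit_of_witt (Γ := Γ) (Y := A) le_rfl (s.A_le.trans s.R_le_c)
    (fun x hx h => s.witt_A hx h) hkΓ hkc
  obtain ⟨w, hwΓ, hw, huw, hne⟩ := exists_commuting_of_moves s.se s.inv huΓ s.fix htr haO hkΓ hkc
    (mem_stab2.1 hk).1 (mem_stab2.1 hk).2
  set Cn := centralizer (A : Set G) with hCn
  haveI hn : (Cn.subgroupOf Γ).Normal := by
    refine (normal_subgroupOf_iff_le_normalizer (centralizer_le_normalizer _)).2 fun g hg => ?_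
    refine Coprime.mem_normalizer_of_conj_map_le fun y hy => mem_centralizer_iff.2 fun z hz => ?_
    have h := mem_centralizer_iff.1 hy _ (conj_inv_mem_of_mem_normalizer hg hz)
    calc z * (g * y * g⁻¹) = g * ((g⁻¹ * z * g) * y) * g⁻¹ := by group
      _ = g * y * g⁻¹ * z := by rw [h]; group
  by_cases hodd : Odd (Nat.card Cn)
  · have hN : ∀ g ∈ Γ, g ∈ normalizer (Cn : Set G) := fun g hg =>
      (normal_subgroupOf_iff_le_normalizer (centralizer_le_normalizer _)).1 hn hg
    exact hkc (mem_stabilizer_iff.1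
      (le_stabilizer_of_four s.se hodd s.inv s.fix hw huw hne (hN u huΓ) (hN w hwΓ) hkA))
  · obtain ⟨t, ht, ht2⟩ := Basic.exists_involution_of_even _ (Nat.not_odd_iff_even.1 hodd)
    have htΓ : t ∈ Γ := centralizer_le_normalizer _ ht
    obtain ⟨g, hg⟩ := isConj_iff.1 (SE.all_conj (orbit_se s.se s.inv huΓ s.fix hkΓ hkc)
      (a := (⟨t, htΓ⟩ : Γ)) (b := ⟨u, huΓ⟩) ((orderOf_mk t htΓ).trans ht2)
      ((orderOf_mk u huΓ).trans s.inv))
    refine s.u_not_central_A ?_
    have h := hn.conj_mem ⟨t, htΓ⟩ (mem_subgroupOf.2 ht) g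
    rw [hg] at h
    exact mem_subgroupOf.1 h

/-- `O_{r'}(G_{a,b})` fixes `c`. -/
theorem core_fix :
    (Cfsg.pPrimeCore r (stab2 a (u • a))).map (stab2 a (u • a)).subtype ≤ stabilizer G c := by
  haveI := Fact.mk s.prime
  set D := stab2 a (u • a) with hD
  set X := (Cfsg.pPrimeCore r D).map D.subtype with hX
  have hXD : X ≤ D := map_subtype_le _
  have hXodd : Odd (Nat.card X) := s.odd_D.of_dvd_nat (Subgroup.card_dvd_of_le hXD)
  have hXcop : (Nat.card X).Coprime r := by
    rw [hX, Coprime.card_map_subtype]; exact Solvable.Cores.coprime_card_pPrimeCore r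
  have hXN : normalizer (D : Set G) ≤ normalizer (X : Set G) := by
    haveI : (Cfsg.pPrimeCore r D).Characteristic := inferInstance
    exact fun g hg => Coprime.FixedPointFreeOnModule.mem_normalizer_map_of_char _ hg
  set A := ⁅R, zpowers u⁆ with hA
  have hAD : A ≤ D := s.A_le.trans s.R_le_D
  obtain ⟨K, hK0, hKs⟩ : ∃ K : ℕ → Subgroup G, K 0 = X ∧ ∀ n, K (n + 1) = ⁅K n, K n⁆ :=
    ⟨fun n => Nat.rec X (fun _ B => (⁅B, B⁆ : Subgroup G)) n, rfl, fun _ => rfl⟩
  have hKX : ∀ n, K n ≤ X := by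
    intro n; induction n with
    | zero => exact hK0.le
    | succ n ih => rw [hKs]; exact (commutator_mono ih ih).trans X.commutator_le_self
  have hKN : ∀ n, normalizer (D : Set G) ≤ normalizer (K n : Set G) := by
    intro n; induction n with
    | zero => rw [hK0]; exact hXN
    | succ n ih =>
      intro g hg
      rw [hKs]
      refine mem_normalizer_iff_map_conj_eq.2 ?_
      rw [Subgroup.map_commutator, mem_normalizer_iff_map_conj_eq.1 (ih hg)]
  obtain ⟨m, hm⟩ : ∃ m, K m ≤ stabilizer G c := by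
    obtain ⟨n, hn⟩ := (Group.isSolvable_def X).1 (CfsgLib.OddOrder.Final.oddSolvable X hXodd)
    refine ⟨n, le_trans (le_of_eq ?_) bot_le⟩
    have : ∀ m, K m = (derivedSeries X m).map X.subtype := by
      intro m; induction m with
      | zero => rw [derivedSeries_zero, ← MonoidHom.range_eq_map, range_subtype, hK0]
      | succ m ih => rw [derivedSeries_succ, Subgroup.map_commutator, ← ih, hKs]
    rw [this, hn, Subgroup.map_bot]
  have step : ∀ n, K (n + 1) ≤ stabilizer G c → K n ≤ stabilizer G c := by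
    intro n hn x hx
    set S₁ := K n ⊓ stabilizer G c with hS₁
    have hDn : ∀ {g : G}, g ∈ normalizer (D : Set G) → ∀ {y : G}, y ∈ K n → g * y * g⁻¹ ∈ K n :=
      fun hg _ hy => conj_mem_of_mem_normalizer (hKN n hg) hy
    -- an involution with fixed point `c` inverts modulo `S₁`
    have hinv : ∀ v : G, orderOf v = 2 → v • c = c → v ∈ normalizer (D : Set G) →
        ∀ y ∈ K n, y * (v * y * v) ∈ S₁ := by
      intro v hv hvc hvD y hy
      have hvy : v * y * v ∈ K n := by have := hDn hvD hy; rwa [inv_eq hv] at this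
      refine ⟨mul_mem hy hvy, ?_⟩
      set z := y * (v * y * v) with hz
      obtain ⟨m', hm', hmz⟩ := Coprime.exists_mul_mem_centralizer (A := zpowers v) (N := K (n + 1))
        (zpowers_le.2 (hKN (n + 1) hvD))
        (coprime_zpowers hv (hXodd.of_dvd_nat (Subgroup.card_dvd_of_le (hKX (n + 1)))))
        (.inl (Coprime.isSolvable_zpowers v)) (k := z) (by
          have hbase : ⁅v, z⁆ ∈ K (n + 1) := by
            rw [show ⁅v, z⁆ = ⁅v * y * v, y⁆ by
              rw [commutatorElement_def, commutatorElement_def, hz]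
              simp only [mul_inv_rev, inv_eq hv, mul_assoc]
              rw [← mul_assoc v v, mul_self hv, one_mul], hKs]
            exact commutator_mem_commutator hvy hy
          intro g hg
          obtain ⟨j, rfl⟩ := mem_zpowers_iff.1 hg
          have e : v ^ (2 : ℤ) = 1 := by rw [zpow_two, mul_self hv]
          rcases Int.even_or_odd j with ⟨i, rfl⟩ | ⟨i, rfl⟩
          · rw [← two_mul, zpow_mul, e, one_zpow, commutatorElement_one_left]
            exact one_mem _
          · rw [zpow_add_one, zpow_mul, e, one_zpow, one_mul]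
            exact hbase)
      have h := SE.commute_fixes s.se hv hvc (centralizer_zpowers_mem hmz)
      rw [mul_smul, ← eq_inv_smul_iff, inv_smul_eq_iff.2 (hn hm').symm] at h
      exact mem_stabilizer_iff.2 h
    have huD : u ∈ normalizer (D : Set G) := swap_mem_normalizer s.inv rfl
    have hgen : ∀ ρ ∈ R, ∀ y ∈ K n, ⁅⁅ρ, u⁆, y⁆ ∈ S₁ := by
      intro ρ hρ y hy
      have hρD : ρ ∈ normalizer (D : Set G) := le_normalizer (s.R_le_D hρ)
      set v := ρ * u * ρ⁻¹ with hv
      have hvD : v ∈ normalizer (D : Set G) := mul_mem (mul_mem hρD huD) (inv_mem hρD)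
      have hρc : ρ • c = c := s.R_le_c hρ
      have huy : u * y * u ∈ K n := by have := hDn huD hy; rwa [inv_eq s.inv] at this
      have hv2 : orderOf v = 2 := (orderOf_conj ρ u).trans s.inv
      have hvc : v • c = c := by
        rw [hv, mul_smul, mul_smul, inv_smul_eq_iff.2 hρc.symm, s.fix, hρc]
      have hvy : v * (u * y * u) * v ∈ K n := by
        have := hDn hvD huy; rwa [inv_eq hv2] at this
      have h1 := hinv v hv2 hvc hvD _ hvy
      have h2 := hinv u s.inv s.fix huD y hy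
      rw [show v * (v * (u * y * u) * v) * v = (v * v) * (u * y * u) * (v * v) by group,
        mul_self hv2, one_mul, mul_one] at h1
      have e : ⁅⁅ρ, u⁆, y⁆ = v * (u * y * u) * v * (u * y * u) * (y * (u * y * u))⁻¹ := by
        have e1 : ⁅ρ, u⁆ = v * u := by rw [hv, commutatorElement_def, inv_eq s.inv]
        rw [e1, commutatorElement_def, mul_inv_rev v u, inv_eq s.inv, inv_eq hv2]
        group
      rw [e]
      exact mul_mem h1 (inv_mem h2)
    have hS₁N : ∀ {α : G}, α ∈ A → α ∈ normalizer (S₁ : Set G) := fun hα =>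
      mem_normalizer_inf' (hKN n (le_normalizer (hAD hα)))
        (le_normalizer ((s.A_le.trans s.R_le_c) hα))
    have hAK : ∀ α ∈ A, ∀ y ∈ K n, ⁅α, y⁆ ∈ S₁ := by
      intro α hα
      have hA' : A = Subgroup.closure {g | ∃ ρ ∈ R, ∃ z ∈ zpowers u, ⁅ρ, z⁆ = g} := by
        rw [hA, Subgroup.commutator_def]
      have hle : ∀ g ∈ {g | ∃ ρ ∈ R, ∃ z ∈ zpowers u, ⁅ρ, z⁆ = g}, g ∈ A := fun g hg =>
        hA'.ge (Subgroup.subset_closure hg)
      rw [hA'] at hα
      induction hα using Subgroup.closure_induction with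
      | mem g hg =>
        obtain ⟨ρ, hρ, z, hz, rfl⟩ := hg
        obtain ⟨j, rfl⟩ := mem_zpowers_iff.1 hz
        have e : u ^ (2 : ℤ) = 1 := by rw [zpow_two, mul_self s.inv]
        intro y hy
        rcases Int.even_or_odd j with ⟨i, rfl⟩ | ⟨i, rfl⟩
        · rw [← two_mul, zpow_mul, e, one_zpow, commutatorElement_one_right,
            commutatorElement_one_left]
          exact one_mem _
        · rw [zpow_add_one, zpow_mul, e, one_zpow, one_mul]
          exact hgen ρ hρ y hy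
      | one => intro y _; rw [commutatorElement_one_left]; exact one_mem _
      | mul α β hα hβ h1 h2 =>
        intro y hy
        rw [show ⁅α * β, y⁆ = α * ⁅β, y⁆ * α⁻¹ * ⁅α, y⁆ by
          simp only [commutatorElement_def]; group]
        exact mul_mem (conj_mem_of_mem_normalizer (hS₁N (hA'.ge hα)) (h2 y hy)) (h1 y hy)
      | inv α hα h1 =>
        intro y hy
        rw [show ⁅α⁻¹, y⁆ = α⁻¹ * ⁅α, y⁆⁻¹ * α⁻¹⁻¹ by simp only [commutatorElement_def]; group]
        exact conj_mem_of_mem_normalizer (hS₁N (inv_mem (hA'.ge hα))) (inv_mem (h1 y hy))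
    obtain ⟨k, hk⟩ := IsPGroup.iff_card.1 (s.R_group.to_le s.A_le)
    obtain ⟨e, he, hex⟩ := Coprime.exists_mul_mem_centralizer (A := A) (N := S₁)
      (fun α hα => hS₁N hα) (by
        rw [hk]
        exact ((hXcop.coprime_dvd_left
          (Subgroup.card_dvd_of_le (inf_le_left.trans (hKX n)))).symm.pow_left k))
      (.inr (CfsgLib.OddOrder.Final.oddSolvable S₁
        (hXodd.of_dvd_nat (Subgroup.card_dvd_of_le (inf_le_left.trans (hKX n))))))
      (k := x) (fun α hα => hAK α hα x hx)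
    have h := s.centralizer_A_fix
      (mul_mem (hXD (hKX n he.1)) (hXD (hKX n hx))) hex
    rw [mul_smul, ← eq_inv_smul_iff,
      inv_smul_eq_iff.2 (mem_stabilizer_iff.1 he.2).symm] at h
    exact mem_stabilizer_iff.2 h
  rw [← hK0]
  induction m with
  | zero => exact hm
  | succ m ih => exact ih (step m hm)

end Setup

end CfsgLib.LocalEven.SwapInjective
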